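import Cfsg.Agent.Lib.HJType.AltFive
import Mathlib.Data.ZMod.Basic

/-!
# Class data of `A₅` and `Z₂ × A₅`, by evaluation
-/

set_option autoImplicit false
set_option maxHeartbeats 800000
set_option synthInstance.maxSize 2048

namespace Cfsg.Agent.J1Degrees

open Cfsg.Agent.HJType.AltFive (A5 g5 h3)

/-- The class of an element of `A₅`: one, involution, order three, the two classes of order five. -/
def cls (a : A5) : Fin 5 :=
  if a = 1 then 0 else if a * a = 1 then 1 else if a * a * a = 1 then 2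
  else if ∃ c : A5, c * g5 = a * c then 3 else 4

/-- The class sizes. -/
def csize : Fin 5 → ℕ := ![1, 15, 20, 12, 12]

/-- The numbers of fixed points. -/
def cfix : Fin 5 → ℕ := ![5, 1, 2, 0, 0]

/-- The number of `x` with `x⁻¹ a x = g5 ^ j`, by the class of `a`. -/
def hit5 : Fin 5 → Fin 5 → ℕ :=
  ![![60, 0, 0, 0, 0], ![0, 0, 0, 0, 0], ![0, 0, 0, 0, 0], ![0, 5, 0, 0, 5], ![0, 0, 5, 5, 0]]

/-- The number of `x` with `x⁻¹ a x = h3 ^ j`, by the class of `a`. -/
def hit3 : Fin 5 → Fin 3 → ℕ :=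
  ![![60, 0, 0], ![0, 0, 0], ![0, 3, 3], ![0, 0, 0], ![0, 0, 0]]

/-- The number of ordered pairs of involutions of `Z₂ × A₅` with product in `z · C_k`. -/
def npairs : Fin 5 → ℕ := ![30, 90, 120, 120, 120]

theorem card_cls : ∀ k, (Finset.univ.filter fun a => cls a = k).card = csize k := by decide +kernel

theorem card_fix : ∀ a : A5,
    (Finset.univ.filter fun i : Fin 5 => (a : Equiv.Perm (Fin 5)) i = i).card = cfix (cls a) := by
  decide +kernel

theorem card_hit5 : ∀ a : A5, ∀ j : Fin 5,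
    (Finset.univ.filter fun x : A5 => x⁻¹ * a * x = g5 ^ (j : ℕ)).card = hit5 (cls a) j := by
  decide +kernel

theorem card_hit3 : ∀ a : A5, ∀ j : Fin 3,
    (Finset.univ.filter fun x : A5 => x⁻¹ * a * x = h3 ^ (j : ℕ)).card = hit3 (cls a) j := by
  decide +kernel

theorem cls_odd : ∀ a : A5, cls a ≠ 1 → a * a * a = 1 ∨ a * a * a * a * a = 1 := by decide +kernel

theorem cls_eq_zero : ∀ a : A5, cls a = 0 ↔ a = 1 := by decide +kernel

theorem g5_pow : ∀ i j : Fin 5, g5 ^ (i : ℕ) = g5 ^ (j : ℕ) → i = j := by decide +kernel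

theorem h3_pow : ∀ i j : Fin 3, h3 ^ (i : ℕ) = h3 ^ (j : ℕ) → i = j := by decide +kernel

/-- The involutions of `Z₂ × A₅`. -/
def m0invols : Finset (Multiplicative (ZMod 2) × A5) :=
  Finset.univ.filter fun p => p * p = 1 ∧ p ≠ 1

theorem card_pairs : ∀ k : Fin 5, ((m0invols ×ˢ m0invols).filter fun q =>
    (q.1 * q.2).1 ≠ 1 ∧ cls (q.1 * q.2).2 = k).card = npairs k := by decide +kernel

theorem card_m0invols : m0invols.card = 31 := by decide +kernel

end Cfsg.Agent.J1Degrees
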