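import Mathlib

/-!
# Finite searches for the degree equations of a group with centraliser `Z₂ × A₅`
-/

set_option autoImplicit false

namespace Cfsg.Agent.J1Degrees

/-- `8 k + r` for the indices `k` in `[-n, n)`, tested by `f`. -/
def allAP (r : ℤ) (n : ℕ) (f : ℤ → Bool) : Bool :=
  (List.range (2 * n)).all fun i => f (8 * ((i : ℤ) - n) + r)

theorem allAP_spec {r : ℤ} {n : ℕ} {f : ℤ → Bool} (h : allAP r n f = true) {x : ℤ}
    (hx : x % 8 = r % 8) (hlo : r - 8 * n ≤ x) (hhi : x < r + 8 * n) : f x = true := by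
  obtain ⟨k, hk⟩ : (8 : ℤ) ∣ x - r := Int.dvd_of_emod_eq_zero (Int.emod_eq_emod_iff_emod_sub_eq_zero.1 hx)
  rw [allAP, List.all_eq_true] at h
  have h2 := h (k + n).toNat (List.mem_range.2 (by omega))
  rwa [show (8 : ℤ) * (((k + n).toNat : ℕ) - n) + r = x by omega] at h2

/-- Is `d` a perfect square? -/
def isSq (d : ℤ) : Bool := decide (0 ≤ d) && decide ((Nat.sqrt d.toNat : ℤ) * Nat.sqrt d.toNat = d)

theorem isSq_of_eq {d r : ℤ} (h : r * r = d) : isSq d = true := by
  have h0 : 0 ≤ d := h ▸ mul_self_nonneg r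
  have e : d.toNat = r.natAbs * r.natAbs := by
    have := Int.natAbs_mul_self (a := r)
    omega
  simp only [isSq, h0, decide_true, Bool.true_and, e, Nat.sqrt_eq, decide_eq_true_eq]
  rw [Int.natAbs_mul_self', h]

/-- The solutions `(X, B)` of the degree equations. -/
def allowed : List (ℤ × ℤ) :=
  [(209, 10241), (-15, -735), (305, 14945), (-111, -5439), (689, 33761), (-495, -24255)]

/-- `B = q q'` with `q + q' = -1 - X` is given; test the partner product `A`. -/
def smallQ (q X : ℤ) : Bool :=
  let B := -q * (X + 1 + q)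
  let L := 2 * B - 125 * X
  if L = 0 ∨ (27 * B * X) % L ≠ 0 then true
  else if decide (-7 < X ∧ X < 9) then true
  else if isSq ((-1 - X) * (-1 - X) - 4 * (-(27 * B * X) / L)) then allowed.contains (X, B)
  else true

/-- The three coefficients of the quadratic equation for `X` given `P` and `q`. -/
def qA (P q : ℤ) : ℤ := -125 * P + 27 * q - 2 * P * q
def qB (P q : ℤ) : ℤ := -125 * P * (1 + P) + 27 * q * (1 + q) - 2 * P * q * (2 + P + q)
def qC (P q : ℤ) : ℤ := -2 * P * q * (1 + P) * (1 + q)

/-- A candidate root `X = n / m` of the quadratic. -/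
def candOK (q n m : ℤ) : Bool :=
  decide (n % m ≠ 0) || decide (-7 < n / m ∧ n / m < 9) || decide ((n / m) % 8 ≠ 1) ||
    allowed.contains (n / m, -q * (n / m + 1 + q))

/-- No root of the quadratic for `(P, q)` beyond the solutions. -/
def pairOK (P q : ℤ) : Bool :=
  let a := qA P q
  let b := qB P q
  let d := b * b - 4 * a * qC P q
  if a = 0 then decide (b ≠ 0) && candOK q (-qC P q) b
  else if isSq d then candOK q (-b + Nat.sqrt d.toNat) (2 * a) && candOK q (-b - Nat.sqrt d.toNat) (2 * a)
  else true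

/-- The quadratic equation for `X` given `P` and `q`. -/
theorem pairOK_spec {P q X : ℤ} (h : pairOK P q = true)
    (he : qA P q * X * X + qB P q * X + qC P q = 0) (hX : X ≤ -7 ∨ 9 ≤ X) (hX8 : X % 8 = 1) :
    (X, -q * (X + 1 + q)) ∈ allowed := by
  have cand : ∀ n m : ℤ, m ≠ 0 → n = X * m → candOK q n m = true → (X, -q * (X + 1 + q)) ∈ allowed := by
    intro n m hm hn hc
    have h1 : n % m = 0 := by rw [hn]; exact Int.mul_emod_left X m
    have h2 : n / m = X := by rw [hn, Int.mul_ediv_cancel _ hm]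
    simp only [candOK, h1, h2, Bool.or_eq_true, decide_eq_true_eq, List.contains_iff_mem] at hc
    rcases hc with ((hc | hc) | hc) | hc
    · exact absurd rfl hc
    · omega
    · omega
    · exact hc
  unfold pairOK at h
  simp only at h
  split_ifs at h with ha hs
  · simp only [Bool.and_eq_true, decide_eq_true_eq] at h
    refine cand _ _ h.1 ?_ h.2
    rw [ha] at he
    linarith
  · simp only [Bool.and_eq_true] at h
    set a := qA P q
    set b := qB P q
    set c := qC P q
    have hd : (2 * a * X + b) * (2 * a * X + b) = b * b - 4 * a * c := by linear_combination 4 * a * he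
    have hr : (Nat.sqrt (b * b - 4 * a * c).toNat : ℤ) = |2 * a * X + b| := by
      rw [← hd, ← Int.natAbs_mul_self' (2 * a * X + b), ← Nat.cast_mul, Int.toNat_natCast, Nat.sqrt_eq,
        Int.natCast_natAbs]
    rcases abs_choice (2 * a * X + b) with hab | hab
    · exact cand _ _ (mul_ne_zero two_ne_zero ha) (by rw [hr, hab]; ring) h.1
    · exact cand _ _ (mul_ne_zero two_ne_zero ha) (by rw [hr, hab]; ring) h.2
  · exact absurd (isSq_of_eq (show (2 * qA P q * X + qB P q) * (2 * qA P q * X + qB P q) =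
      qB P q * qB P q - 4 * qA P q * qC P q by linear_combination 4 * qA P q * he)) hs

theorem smallQ_spec {q X A P : ℤ} (h : smallQ q X = true) (hX : X ≤ -7 ∨ 9 ≤ X)
    (hA : A = -P * (X + 1 + P)) (hB : -q * (X + 1 + q) ≠ 0)
    (he : 125 * A * X = 27 * (-q * (X + 1 + q)) * X + 2 * A * (-q * (X + 1 + q))) :
    (X, -q * (X + 1 + q)) ∈ allowed := by
  set B := -q * (X + 1 + q) with hBdef
  have hL : A * (2 * B - 125 * X) = -(27 * B * X) := by linear_combination -he
  have hBX : 27 * B * X ≠ 0 := mul_ne_zero (mul_ne_zero (by norm_num) hB) (by omega)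
  have hL0 : 2 * B - 125 * X ≠ 0 := fun e => hBX (by rw [e, mul_zero] at hL; linarith)
  have hdiv : (27 * B * X) % (2 * B - 125 * X) = 0 :=
    Int.emod_eq_zero_of_dvd ⟨-A, by linear_combination hL⟩
  have hq : -(27 * B * X) / (2 * B - 125 * X) = A := by rw [← hL, Int.mul_ediv_cancel _ hL0]
  unfold smallQ at h
  simp only [← hBdef, hdiv, hL0, ne_eq, not_true_eq_false, or_false, if_false] at h
  rw [if_neg (by simp only [decide_eq_true_eq]; omega), hq, if_pos (isSq_of_eq
    (show (2 * P + X + 1) * (2 * P + X + 1) = (-1 - X) * (-1 - X) - 4 * A by rw [hA]; ring))] at h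
  exact List.contains_iff_mem.1 h

/-- The coefficient of the leading term in the bound for `X`. -/
def cQ (q : ℤ) : ℕ := (125 + 2 * q).natAbs

/-- All searches for one value of `q`. -/
def rowOK (q : ℤ) : Bool :=
  allAP 1 (4 * (2 * q * (q + 1)).natAbs / (8 * cQ q) + 2) (smallQ q) &&
    allAP 3 ((27 * cQ q + 4500) * 10 / (9 * cQ q) / 8 + 2) fun P => pairOK P q

/-- All searches. -/
def allRows : Bool := (List.range 28).all fun i => rowOK (-229 + 8 * (i : ℤ))

theorem allRows_true : allRows = true := by decide +kernel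

theorem rowOK_of_mem {q : ℤ} (h8 : q % 8 = 3) (hlo : -229 ≤ q) (hhi : q ≤ -13) : rowOK q = true := by
  have h := allRows_true
  rw [allRows, List.all_eq_true] at h
  have h2 := h ((q + 229) / 8).toNat (List.mem_range.2 (by omega))
  rwa [show -229 + 8 * ((((q + 229) / 8).toNat : ℕ) : ℤ) = q by omega] at h2

end Cfsg.Agent.J1Degrees
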