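import Cfsg.Agent.Lib.J1Degrees.Check

/-!
# The searches for small values of `P`
-/

set_option autoImplicit false

namespace Cfsg.Agent.J1Degrees

/-- `A = P P'` with `P + P' = -1 - X` is given; test the partner product `B`. -/
def smallP (P X : ℤ) : Bool :=
  let A := -P * (X + 1 + P)
  let L := 2 * A + 27 * X
  if L = 0 ∨ (125 * A * X) % L ≠ 0 then true
  else if decide (-7 < X ∧ X < 9) then true
  else if isSq ((-1 - X) * (-1 - X) - 4 * (125 * A * X / L)) then allowed.contains (X, 125 * A * X / L)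
  else true

theorem smallP_spec {P X B q : ℤ} (h : smallP P X = true) (hX : X ≤ -7 ∨ 9 ≤ X)
    (hB : B = -q * (X + 1 + q)) (hA : -P * (X + 1 + P) ≠ 0)
    (he : 125 * (-P * (X + 1 + P)) * X = 27 * B * X + 2 * (-P * (X + 1 + P)) * B) :
    (X, B) ∈ allowed := by
  set A := -P * (X + 1 + P) with hAdef
  have hL : B * (2 * A + 27 * X) = 125 * A * X := by linear_combination -he
  have hAX : 125 * A * X ≠ 0 := mul_ne_zero (mul_ne_zero (by norm_num) hA) (by omega)
  have hL0 : 2 * A + 27 * X ≠ 0 := fun e => hAX (by rw [e, mul_zero] at hL; linarith)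
  have hdiv : (125 * A * X) % (2 * A + 27 * X) = 0 := Int.emod_eq_zero_of_dvd ⟨B, by linear_combination -hL⟩
  have hq : 125 * A * X / (2 * A + 27 * X) = B := by rw [← hL, Int.mul_ediv_cancel _ hL0]
  unfold smallP at h
  simp only [← hAdef, hdiv, hL0, ne_eq, not_true_eq_false, or_false, if_false] at h
  rw [if_neg (by simp only [decide_eq_true_eq]; omega), hq, if_pos (isSq_of_eq
    (show (2 * q + X + 1) * (2 * q + X + 1) = (-1 - X) * (-1 - X) - 4 * B by rw [hB]; ring))] at h
  exact List.contains_iff_mem.1 h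

/-- The coefficient of the leading term in the bound for `X`. -/
def cP (P : ℤ) : ℕ := (27 - 2 * P).natAbs

/-- All searches for one value of `P`. -/
def rowP (P : ℤ) : Bool :=
  allAP 1 (4 * (2 * P * (P + 1)).natAbs / (8 * cP P) + 2) (smallP P) &&
    allAP 3 ((125 * cP P + 4500) * 10 / (9 * cP P) / 8 + 2) (pairOK P)

/-- All searches. -/
def allRowsP : Bool := (List.range 6).all fun i => rowP (11 + 8 * (i : ℤ))

theorem allRowsP_true : allRowsP = true := by decide +kernel

theorem rowP_of_mem {P : ℤ} (h8 : P % 8 = 3) (hlo : 11 ≤ P) (hhi : P ≤ 51) : rowP P = true := by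
  have h := allRowsP_true
  rw [allRowsP, List.all_eq_true] at h
  have h2 := h ((P - 11) / 8).toNat (List.mem_range.2 (by omega))
  rwa [show 11 + 8 * ((((P - 11) / 8).toNat : ℕ) : ℤ) = P by omega] at h2

end Cfsg.Agent.J1Degrees
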