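import Cfsg.Agent.Lib.J1Degrees.Check

/-!
# The degree equations: the overlapping case and the triangle case have no solution
-/

set_option autoImplicit false

namespace Cfsg.Agent.J1Degrees

/-- Divisibility test for the overlapping case. -/
def overlapOK (R : ℤ) : Bool :=
  decide (-17 < R ∧ R < 63) || decide ((27 * R * R * (-1 - 2 * R)) % (-2 * R * R - 410 * R - 205) ≠ 0)

theorem overlapOK_all : allAP 7 112 overlapOK = true := by decide +kernel

/-- **The overlapping case.** -/
theorem overlap {g X P P' R : ℤ} (hX : X ≤ -7 ∨ 9 ≤ X) (hP : P ≤ -21 ∨ 11 ≤ P) (hP' : P' ≤ -21 ∨ 11 ≤ P')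
    (hR8 : R % 8 = 7) (hR : R ≤ -17 ∨ 63 ≤ R)
    (s1 : 1 + X + P + P' = 0) (s2 : 1 + X + 2 * R = 0)
    (ea : (g : ℚ) * (1 + 1 / X + 9 / P + 9 / P') = 144000)
    (ec : (g : ℚ) * (1 + 1 / X + 82 / R) = 86400) : False := by
  have gne : (g : ℚ) ≠ 0 := fun e => by rw [e, zero_mul] at ea; norm_num at ea
  have E : (2 : ℚ) + 2 / X + 410 / R = 27 / P + 27 / P' := by
    have h : (g : ℚ) * ((2 + 2 / X + 410 / R) - (27 / P + 27 / P')) = 0 := by
      linear_combination 5 * ec - 3 * ea
    linarith [(mul_eq_zero.1 h).resolve_left gne]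
  have nX : (X : ℚ) ≠ 0 := Int.cast_ne_zero.2 (by omega)
  have nP : (P : ℚ) ≠ 0 := Int.cast_ne_zero.2 (by omega)
  have nP' : (P' : ℚ) ≠ 0 := Int.cast_ne_zero.2 (by omega)
  have nR : (R : ℚ) ≠ 0 := Int.cast_ne_zero.2 (by omega)
  obtain rfl : X = -1 - 2 * R := by omega
  obtain rfl : P' = 2 * R - P := by omega
  set D := -2 * R * R - 410 * R - 205 with hD
  set A := P * (2 * R - P)
  have he : A * D = 27 * R * R * (-1 - 2 * R) := by
    have h : (A * D - 27 * R * R * (-1 - 2 * R)) * 2 = 0 := by
      field_simp at E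
      rw [← @Int.cast_inj ℚ]
      push_cast [A, hD] at E ⊢
      linear_combination E
    omega
  have hdiv : D ∣ 27 * (205 * 205) := by
    have h1 : D ∣ 27 * R * R * (-1 - 2 * R) := ⟨A, by linear_combination -he⟩
    have h2 : IsCoprime D (-1 - 2 * R) := ⟨-2, 2 * R + 409, by rw [hD]; ring⟩
    have h3 : D ∣ 27 * R * R := h2.dvd_of_dvd_mul_right h1
    have e : 27 * (205 * 205) = 27 * D * D + 54 * D * (R * (2 * R + 410)) +
        (27 * R * R) * ((2 * R + 410) * (2 * R + 410)) := by rw [hD]; ring
    rw [e]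
    exact dvd_add (dvd_add ⟨27 * D, by ring⟩ ⟨54 * (R * (2 * R + 410)), by ring⟩) (h3.mul_right _)
  have hb : |D| ≤ 1134675 := by
    have := Int.le_of_dvd (by norm_num) ((abs_dvd _ _).2 hdiv)
    norm_num at this
    exact this
  rw [abs_le] at hb
  have hlo : -889 ≤ R := by
    by_contra h
    nlinarith
  have hhi : R < 895 := by
    by_contra h
    nlinarith
  have h := allAP_spec overlapOK_all (by rw [hR8]; rfl) (by push_cast; omega) (by push_cast; omega) (x := R)
  simp only [overlapOK, Bool.or_eq_true, decide_eq_true_eq] at h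
  rcases h with h | h
  · omega
  · exact h (Int.emod_eq_zero_of_dvd ⟨A, by linear_combination -he⟩)

/-- The triangle equation fails at `(x, y)`. -/
def triOK (x y : ℤ) : Bool :=
  let a := -1 - x - y
  let c := -1 - 2 * y
  decide (-42 < x ∧ x < 14) || decide (-21 < a ∧ a < 11) || decide (-10 < y ∧ y < 14) ||
    decide ((108 * a + 27 * x) * y * c - x * a * (2 * y * c + 28 * c + 125 * y) ≠ 0)

/-- The searches for one value of `y`. -/
def triRow (y : ℤ) : Bool :=
  allAP 6 92 (fun x => triOK x y) && allAP 3 24 (fun a => triOK (-1 - y - a) y)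

theorem triRow_all : allAP 6 51 triRow = true := by decide +kernel

/-- **The triangle case.** -/
theorem triangle {g x y a : ℤ} (hx8 : x % 8 = 6) (hx : x ≤ -42 ∨ 14 ≤ x) (hy8 : y % 8 = 6)
    (hy : y ≤ -10 ∨ 14 ≤ y) (ha8 : a % 8 = 3) (ha : a ≤ -21 ∨ 11 ≤ a) (s1 : 1 + x + y + a = 0)
    (ea : (g : ℚ) * (1 + 36 / x + 4 / y + 9 / a) = 144000)
    (ec : (g : ℚ) * (1 + 8 / y + 25 / ((-1 - 2 * y : ℤ) : ℚ)) = 86400) : False := by
  set c := -1 - 2 * y with hc
  have gne : (g : ℚ) ≠ 0 := fun e => by rw [e, zero_mul] at ea; norm_num at ea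
  have E : (108 : ℚ) / x + 27 / a = 2 + 28 / y + 125 / c := by
    have h : (g : ℚ) * ((108 / x + 27 / a) - (2 + 28 / y + 125 / c)) = 0 := by
      linear_combination 3 * ea - 5 * ec
    linarith [(mul_eq_zero.1 h).resolve_left gne]
  have nx : (x : ℚ) ≠ 0 := Int.cast_ne_zero.2 (by omega)
  have ny : (y : ℚ) ≠ 0 := Int.cast_ne_zero.2 (by omega)
  have na : (a : ℚ) ≠ 0 := Int.cast_ne_zero.2 (by omega)
  have nc : (c : ℚ) ≠ 0 := Int.cast_ne_zero.2 (by omega)
  have hcQ : (c : ℚ) = -1 - 2 * (y : ℚ) := by rw [hc]; push_cast; ring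
  have hpoly : (108 * a + 27 * x) * y * c - x * a * (2 * y * c + 28 * c + 125 * y) = 0 := by
    rw [← @Int.cast_inj ℚ]
    push_cast
    field_simp at E
    linear_combination E
  have inv_bound : ∀ (v : ℤ) (k : ℚ) (n : ℕ), 0 ≤ k → 0 < n → (n : ℤ) ≤ |v| → |k / (v : ℚ)| ≤ k / n := by
    intro v k n hk hn hv
    rw [abs_div, abs_of_nonneg hk, ← Int.cast_abs]
    refine div_le_div_of_nonneg_left hk (by exact_mod_cast hn) ?_
    exact_mod_cast hv
  by_cases hy400 : |y| < 400
  · have hrow := allAP_spec triRow_all (by rw [hy8]; rfl)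
      (by push_cast; rcases abs_lt.1 hy400 with ⟨h1, h2⟩; omega)
      (by push_cast; rcases abs_lt.1 hy400 with ⟨h1, h2⟩; omega) (x := y)
    rw [triRow, Bool.and_eq_true] at hrow
    have done : triOK x y = true → False := fun h => by
      simp only [triOK, Bool.or_eq_true, decide_eq_true_eq, show -1 - x - y = a by omega, ← hc] at h
      rcases h with ((h | h) | h) | h
      · omega
      · omega
      · omega
      · exact h hpoly
    by_cases hxs : |x| < 718
    · exact done (allAP_spec hrow.1 (by rw [hx8]; rfl) (by push_cast; rcases abs_lt.1 hxs with ⟨h1, h2⟩; omega)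
        (by push_cast; rcases abs_lt.1 hxs with ⟨h1, h2⟩; omega))
    by_cases has : |a| < 181
    · have h := allAP_spec hrow.2 (by rw [ha8]; rfl) (by push_cast; rcases abs_lt.1 has with ⟨h1, h2⟩; omega)
        (by push_cast; rcases abs_lt.1 has with ⟨h1, h2⟩; omega) (x := a)
      simp only [show -1 - y - a = x by omega] at h
      exact done h
    have b1 := inv_bound x 108 718 (by norm_num) (by norm_num) (by omega)
    have b2 := inv_bound a 27 181 (by norm_num) (by norm_num) (by omega)
    rw [abs_le] at b1 b2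
    -- the right-hand side is bounded away from zero
    rcases hy with h | h
    · have h1 : -(28 / 10) ≤ (28 : ℚ) / y := by
        have := inv_bound y 28 10 (by norm_num) (by norm_num) (by rw [abs_of_neg (by omega)]; omega)
        rw [abs_le] at this
        exact_mod_cast this.1
      have h2 : (28 : ℚ) / y + 125 / c ≥ 0 := by
        have hyq : (y : ℚ) ≤ -10 := by exact_mod_cast h
        rw [hcQ, div_add_div _ _ ny (by rw [← hcQ]; exact nc), ge_iff_le]
        exact div_nonneg_of_nonpos (by linarith) (mul_nonpos_of_nonpos_of_nonneg (by linarith) (by linarith))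
      norm_num at b1 b2
      linarith
    · rcases (show y = 14 ∨ 22 ≤ y by omega) with h14 | h22
      · subst h14
        rw [hcQ] at E
        norm_num at E b1 b2
        linarith
      · have hyq : (22 : ℚ) ≤ y := by exact_mod_cast h22
        have h1 : (0 : ℚ) < 28 / y := by positivity
        have h2 : (28 : ℚ) / y + 125 / c ≥ -(151 / 100) := by
          rw [hcQ, ge_iff_le, div_add_div _ _ ny (by rw [← hcQ]; exact nc),
            le_div_iff_of_neg (mul_neg_of_pos_of_neg (by linarith) (by linarith))]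
          nlinarith
        norm_num at b1 b2
        linarith
  -- large `|y|`
  push Not at hy400
  have by1 := inv_bound y 28 400 (by norm_num) (by norm_num) (by omega)
  have bc1 := inv_bound c 125 799 (by norm_num) (by norm_num) (by
    rcases abs_cases y with h | h <;> rcases abs_cases c with h' | h' <;> omega)
  rw [abs_le] at by1 bc1
  norm_num at by1 bc1
  have hxq : (x : ℚ) ≤ -42 ∨ (14 : ℚ) ≤ x := by
    rcases hx with h | h
    · exact Or.inl (by exact_mod_cast h)
    · exact Or.inr (by exact_mod_cast h)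
  by_cases hxs : 14 ≤ x ∧ x ≤ 118
  · have b2 := inv_bound a 27 281 (by norm_num) (by norm_num) (by
      rcases abs_cases y with h | h <;> rcases abs_cases a with h' | h' <;> omega)
    rw [abs_le] at b2
    norm_num at b2
    obtain ⟨k, rfl⟩ : ∃ k, x = 8 * k + 6 := ⟨x / 8, by omega⟩
    have hk1 : 1 ≤ k := by omega
    have hk2 : k ≤ 14 := by omega
    have hsign : ((28 : ℚ) / y ≤ 0 ∧ 0 ≤ (125 : ℚ) / c ∧ 0 ≤ (27 : ℚ) / a) ∨
        (0 ≤ (28 : ℚ) / y ∧ (125 : ℚ) / c ≤ 0 ∧ (27 : ℚ) / a ≤ 0) := by
      rcases (show 400 ≤ y ∨ y ≤ -400 by rcases abs_cases y with h | h <;> omega) with h | h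
      · exact Or.inr ⟨div_nonneg (by norm_num) (by exact_mod_cast (show 0 ≤ y by omega)),
          div_nonpos_of_nonneg_of_nonpos (by norm_num) (by exact_mod_cast (show c ≤ 0 by omega)),
          div_nonpos_of_nonneg_of_nonpos (by norm_num) (by exact_mod_cast (show a ≤ 0 by omega))⟩
      · exact Or.inl ⟨div_nonpos_of_nonneg_of_nonpos (by norm_num) (by exact_mod_cast (show y ≤ 0 by omega)),
          div_nonneg (by norm_num) (by exact_mod_cast (show 0 ≤ c by omega)),
          div_nonneg (by norm_num) (by exact_mod_cast (show 0 ≤ a by omega))⟩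
    interval_cases k <;> norm_num at E hpoly s1 ⊢ <;>
      first | (rcases hsign with ⟨u1, u2, u3⟩ | ⟨u1, u2, u3⟩ <;> linarith) | skip
    -- the remaining value is `x = 54`
    all_goals
      obtain rfl : a = -55 - y := by omega
      have h3 : 3 * y * y + 748 * y - 308 = 0 := by
        rw [hc] at hpoly
        nlinarith
      rcases le_or_gt 400 y with h | h
      · nlinarith
      · have h4 : y ≤ -400 := by rcases abs_cases y with e | e <;> omega
        rcases (show y ≤ -750 ∨ -750 < y by omega) with h5 | h5 <;> nlinarith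
  by_cases has : 11 ≤ a ∧ a ≤ 28
  · have b1 := inv_bound x 108 370 (by norm_num) (by norm_num) (by
      rcases abs_cases y with h | h <;> rcases abs_cases x with h' | h' <;> omega)
    rw [abs_le] at b1
    norm_num at b1
    rcases (show a = 11 ∨ a = 19 ∨ a = 27 by omega) with rfl | rfl | rfl
    · rcases (show 400 ≤ y ∨ y ≤ -400 by rcases abs_cases y with h | h <;> omega) with h | h
      · have hxn : (108 : ℚ) / x ≤ 0 :=
          div_nonpos_of_nonneg_of_nonpos (by norm_num) (by exact_mod_cast (show x ≤ 0 by omega))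
        have hcn : (125 : ℚ) / c ≤ 0 :=
          div_nonpos_of_nonneg_of_nonpos (by norm_num) (by exact_mod_cast (show c ≤ 0 by omega))
        norm_num at E
        linarith
      · have hxp : (0 : ℚ) ≤ 108 / x :=
          div_nonneg (by norm_num) (by exact_mod_cast (show 0 ≤ x by omega))
        have hyn : (28 : ℚ) / y ≤ 0 :=
          div_nonpos_of_nonneg_of_nonpos (by norm_num) (by exact_mod_cast (show y ≤ 0 by omega))
        norm_num at E
        linarith
    all_goals norm_num at E; linarith
  have h1 : (108 : ℚ) / x ≤ 108 / 126 := by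
    rcases hx with h | h
    · have : (108 : ℚ) / x < 0 := div_neg_of_pos_of_neg (by norm_num) (by exact_mod_cast (show x < 0 by omega))
      linarith
    · exact div_le_div_of_nonneg_left (by norm_num) (by norm_num) (by
        exact_mod_cast (show 126 ≤ x by omega))
  have h2 : (27 : ℚ) / a ≤ 27 / 35 := by
    rcases (show a ≤ -21 ∨ 35 ≤ a by omega) with h | h
    · have : (27 : ℚ) / a < 0 := div_neg_of_pos_of_neg (by norm_num) (by exact_mod_cast (show a < 0 by omega))
      linarith
    · exact div_le_div_of_nonneg_left (by norm_num) (by norm_num) (by exact_mod_cast h)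
  linarith

end Cfsg.Agent.J1Degrees
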