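import Cfsg.Agent.Lib.J1Degrees.CheckP

/-!
# The degree equations, sunflower case: `g = 175560` or `g = 189000`
-/

set_option autoImplicit false

namespace Cfsg.Agent.J1Degrees

/-- The bound on the smaller factor when `X` is large. -/
theorem factor_bound {c d X q q' B L M k : ℤ} (hc : 0 < |c|) (hsum : q + q' = -1 - X) (hB : B = q * q')
    (hq : |q| ≤ |q'|) (hX : 10 ≤ |X|) (hbig : 4 * |d| < |c| * |X|) (hk : 0 ≤ k)
    (hL : (c * X + d) * L = M * X * X) (hM : |M| ≤ 3375) (hLB : 2 * |B| ≤ |L| + k * |X|) :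
    |q| * (9 * |c|) ≤ (k * |c| + 4500) * 10 := by
  have h1 : 3 * (|c| * |X|) ≤ 4 * |c * X + d| := by
    have := abs_sub_abs_le_abs_sub (c * X) (-d)
    rw [sub_neg_eq_add, abs_neg, abs_mul] at this
    linarith
  have hXpos : 0 < |X| := by linarith
  have h2 : |c * X + d| * |L| ≤ 3375 * (|X| * |X|) := by
    rw [← abs_mul, hL, abs_mul, abs_mul, mul_assoc]
    exact mul_le_mul_of_nonneg_right hM (mul_nonneg hXpos.le hXpos.le)
  have h3 : |c| * |L| ≤ 4500 * |X| := by
    have h3' := mul_le_mul_of_nonneg_right h1 (abs_nonneg L)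
    exact le_of_mul_le_mul_right (by nlinarith : |c| * |L| * |X| ≤ 4500 * |X| * |X|) hXpos
  have h4 : |q| * (|X| - 1) ≤ 2 * |B| := by
    have hs : |X| - 1 ≤ 2 * |q'| := by
      have := abs_add_le q q'
      rw [hsum] at this
      have h5 : |X| - 1 ≤ |-1 - X| := by
        rcases abs_cases X with h | h <;> rcases abs_cases (-1 - X) with h' | h' <;> omega
      linarith
    rw [hB, abs_mul]
    have := mul_le_mul_of_nonneg_left hs (abs_nonneg q)
    linarith
  have h6 : |q| * (|X| - 1) * |c| ≤ (4500 + k * |c|) * |X| := by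
    have := mul_le_mul_of_nonneg_right (h4.trans hLB) hc.le
    nlinarith
  have h7 : 9 * |X| ≤ 10 * (|X| - 1) := by linarith
  have h8 := mul_le_mul_of_nonneg_left h7 (mul_nonneg (abs_nonneg q) hc.le)
  nlinarith

theorem sol_of_q {X P P' q q' : ℤ} (hX8 : X % 8 = 1) (hX : X ≤ -7 ∨ 9 ≤ X) (hP8 : P % 8 = 3)
    (hq8 : q % 8 = 3) (hlo : -229 ≤ q) (hhi : q ≤ -13) (hP : |P| ≤ |P'|)
    (hq'0 : q' ≠ 0) (s1 : 1 + X + P + P' = 0) (s2 : 1 + X + q + q' = 0)
    (he : 125 * (P * P') * X = 27 * (q * q') * X + 2 * (P * P') * (q * q')) :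
    (X, q * q') ∈ allowed := by
  have hrow := rowOK_of_mem hq8 hlo hhi
  rw [rowOK, Bool.and_eq_true] at hrow
  obtain ⟨h1, h2⟩ := hrow
  obtain rfl : P' = -1 - X - P := by omega
  obtain rfl : q' = -1 - X - q := by omega
  have eB : q * (-1 - X - q) = -q * (X + 1 + q) := by ring
  have eA : P * (-1 - X - P) = -P * (X + 1 + P) := by ring
  rw [eB] at he ⊢
  rw [eA] at he
  set n := 4 * (2 * q * (q + 1)).natAbs / (8 * cQ q) + 2
  by_cases hsmall : 1 - 8 * (n : ℤ) ≤ X ∧ X < 1 + 8 * (n : ℤ)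
  · exact smallQ_spec (allAP_spec h1 (by rw [hX8]; rfl) hsmall.1 hsmall.2) hX rfl
      (by rw [← eB]; exact mul_ne_zero (by omega) hq'0) he
  have hn : 2 ≤ n := Nat.le_add_left 2 _
  have hc0 : 0 < cQ q := by unfold cQ; omega
  have hXn : 8 * (n : ℤ) - 1 ≤ |X| := by
    rcases abs_cases X with h | h <;> omega
  have hdiv : 4 * (2 * q * (q + 1)).natAbs < 8 * cQ q * (n - 1) :=
    (Nat.div_lt_iff_lt_mul (by omega)).1 (show _ < n - 1 by omega) |>.trans_eq (Nat.mul_comm _ _)
  have hbig : 4 * |2 * q * (q + 1)| < |125 + 2 * q| * |X| := by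
    rw [← Int.natCast_natAbs, ← Int.natCast_natAbs (125 + 2 * q)]
    have h3 : (4 * (2 * q * (q + 1)).natAbs : ℤ) < (8 * cQ q * (n - 1) : ℕ) := by exact_mod_cast hdiv
    rw [Nat.cast_mul, Nat.cast_mul, Nat.cast_sub (by omega)] at h3
    unfold cQ at h3
    have h4 := mul_le_mul_of_nonneg_left (show 8 * ((n : ℤ) - 1) ≤ |X| by linarith)
      (Int.natCast_nonneg (125 + 2 * q).natAbs)
    push_cast at h3 h4 ⊢
    linarith
  have hb := factor_bound (c := 125 + 2 * q) (d := 2 * q * (q + 1)) (q := P) (q' := -1 - X - P) (B := P * (-1 - X - P))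
    (L := 2 * (P * (-1 - X - P)) + 27 * X) (M := 3375) (k := 27)
    (abs_pos.2 (by omega)) (by ring) rfl hP (by omega) hbig (by norm_num)
    (by rw [eA]; linear_combination 2 * he) (by norm_num) (by
      have h3 := abs_add_le (2 * (P * (-1 - X - P)) + 27 * X) (-(27 * X))
      rw [add_neg_cancel_right, abs_neg, abs_mul 27 X, abs_mul 2 (P * (-1 - X - P))] at h3
      norm_num at h3 ⊢
      exact h3)
  rw [← Int.natCast_natAbs (125 + 2 * q), ← Int.natCast_natAbs P] at hb
  set m := (27 * cQ q + 4500) * 10 / (9 * cQ q)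
  have hm : P.natAbs ≤ m := by
    refine (Nat.le_div_iff_mul_le (by omega)).2 ?_
    unfold cQ
    exact_mod_cast hb
  refine pairOK_spec (allAP_spec h2 (by rw [hP8]; rfl) (by push_cast; omega) (by push_cast; omega))
    ?_ hX hX8
  unfold qA qB qC
  linear_combination he

theorem sol_of_P {X P P' q q' : ℤ} (hX8 : X % 8 = 1) (hX : X ≤ -7 ∨ 9 ≤ X) (hP8 : P % 8 = 3)
    (hq8 : q % 8 = 3) (hlo : 11 ≤ P) (hhi : P ≤ 51) (hq : |q| ≤ |q'|)
    (hP'0 : P' ≠ 0) (s1 : 1 + X + P + P' = 0) (s2 : 1 + X + q + q' = 0)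
    (he : 125 * (P * P') * X = 27 * (q * q') * X + 2 * (P * P') * (q * q')) :
    (X, q * q') ∈ allowed := by
  have hrow := rowP_of_mem hP8 hlo hhi
  rw [rowP, Bool.and_eq_true] at hrow
  obtain ⟨h1, h2⟩ := hrow
  obtain rfl : P' = -1 - X - P := by omega
  obtain rfl : q' = -1 - X - q := by omega
  have eB : q * (-1 - X - q) = -q * (X + 1 + q) := by ring
  have eA : P * (-1 - X - P) = -P * (X + 1 + P) := by ring
  rw [eB] at he ⊢
  rw [eA] at he
  set n := 4 * (2 * P * (P + 1)).natAbs / (8 * cP P) + 2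
  by_cases hsmall : 1 - 8 * (n : ℤ) ≤ X ∧ X < 1 + 8 * (n : ℤ)
  · exact smallP_spec (allAP_spec h1 (by rw [hX8]; rfl) hsmall.1 hsmall.2) hX rfl
      (by rw [← eA]; exact mul_ne_zero (by omega) hP'0) he
  have hn : 2 ≤ n := Nat.le_add_left 2 _
  have hc0 : 0 < cP P := by unfold cP; omega
  have hXn : 8 * (n : ℤ) - 1 ≤ |X| := by
    rcases abs_cases X with h | h <;> omega
  have hdiv : 4 * (2 * P * (P + 1)).natAbs < 8 * cP P * (n - 1) :=
    (Nat.div_lt_iff_lt_mul (by omega)).1 (show _ < n - 1 by omega) |>.trans_eq (Nat.mul_comm _ _)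
  have hbig : 4 * |-(2 * P * (P + 1))| < |27 - 2 * P| * |X| := by
    rw [abs_neg, ← Int.natCast_natAbs, ← Int.natCast_natAbs (27 - 2 * P)]
    have h3 : (4 * (2 * P * (P + 1)).natAbs : ℤ) < (8 * cP P * (n - 1) : ℕ) := by exact_mod_cast hdiv
    rw [Nat.cast_mul, Nat.cast_mul, Nat.cast_sub (by omega)] at h3
    unfold cP at h3
    have h4 := mul_le_mul_of_nonneg_left (show 8 * ((n : ℤ) - 1) ≤ |X| by linarith)
      (Int.natCast_nonneg (27 - 2 * P).natAbs)
    push_cast at h3 h4 ⊢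
    linarith
  have hb := factor_bound (c := 27 - 2 * P) (d := -(2 * P * (P + 1))) (q := q) (q' := -1 - X - q)
    (B := q * (-1 - X - q)) (L := 2 * (q * (-1 - X - q)) - 125 * X) (M := -3375) (k := 125)
    (abs_pos.2 (by omega)) (by ring) rfl hq (by omega) hbig (by norm_num)
    (by rw [eB]; linear_combination -2 * he) (by norm_num) (by
      have h3 := abs_add_le (2 * (q * (-1 - X - q)) - 125 * X) (125 * X)
      rw [sub_add_cancel, abs_mul 125 X, abs_mul 2 (q * (-1 - X - q))] at h3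
      norm_num at h3 ⊢
      exact h3)
  rw [← Int.natCast_natAbs (27 - 2 * P), ← Int.natCast_natAbs q] at hb
  set m := (125 * cP P + 4500) * 10 / (9 * cP P)
  have hm : q.natAbs ≤ m := by
    refine (Nat.le_div_iff_mul_le (by omega)).2 ?_
    unfold cP
    exact_mod_cast hb
  refine pairOK_spec (allAP_spec h2 (by rw [hq8]; rfl) (by push_cast; omega) (by push_cast; omega))
    ?_ hX hX8
  unfold qA qB qC
  linear_combination he

/-- One of the small factors lies in the searched range. -/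
theorem small_factor {X P P' q q' : ℚ} (hX : X ≤ -7 ∨ 9 ≤ X)
    (hP : P ≤ -21 ∨ 59 ≤ P) (hq : q ≤ -237 ∨ 35 ≤ q)
    (hPP : |P| ≤ |P'|) (hqq : |q| ≤ |q'|)
    (s2 : 1 + X + q + q' = 0)
    (E : 2 + 2 / X + 125 / q + 125 / q' = 27 / P + 27 / P') : False := by
  have inv_le : ∀ a b : ℚ, a ≠ 0 → |a| ≤ |b| → |1 / b| ≤ |1 / a| := fun a b ha h => by
    rw [abs_div, abs_div, abs_one]
    exact one_div_le_one_div_of_le (abs_pos.2 ha) h
  have hu : 27 / P + 27 / P' ≤ 54 / 59 := by
    have h1 := inv_le P P' (by rcases hP with h | h <;> intro e <;> linarith) hPP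
    have h2 := le_abs_self (1 / P')
    rcases hP with h | h
    · have : 1 / P < 0 := div_neg_of_pos_of_neg one_pos (by linarith)
      rw [abs_of_neg this] at h1
      have e : 27 / P + 27 / P' = 27 * (1 / P) + 27 * (1 / P') := by ring
      linarith
    · have h3 : 1 / P ≤ 1 / 59 := one_div_le_one_div_of_le (by norm_num) h
      rw [abs_of_nonneg (show (0 : ℚ) ≤ 1 / P from div_nonneg one_pos.le (by linarith))] at h1
      have e : 27 / P + 27 / P' = 27 * (1 / P) + 27 * (1 / P') := by ring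
      linarith
  have h1 := inv_le q q' (by rcases hq with h | h <;> intro e <;> linarith) hqq
  have h2 := neg_abs_le (1 / q')
  have e : 125 / q + 125 / q' = 125 * (1 / q) + 125 * (1 / q') := by ring
  rcases hq with h | h
  · have h3 : -(1 / 237) ≤ 1 / q := by
      have := one_div_le_one_div_of_le (by norm_num : (0 : ℚ) < 237) (by linarith : 237 ≤ -q)
      rw [div_neg] at this
      linarith
    rcases hX with hx | hx
    · -- the partner is positive
      have hq' : 0 < q' := by linarith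
      have h4 : (0 : ℚ) < 1 / q' := div_pos one_pos hq'
      have h5 : -(1 / 7) ≤ 1 / X := by
        have := one_div_le_one_div_of_le (by norm_num : (0 : ℚ) < 7) (by linarith : 7 ≤ -X)
        rw [div_neg] at this
        linarith
      have e2 : 2 / X = 2 * (1 / X) := by ring
      linarith
    · have h5 : (0 : ℚ) < 2 / X := div_pos two_pos (by linarith)
      rw [abs_of_neg (show 1 / q < 0 from div_neg_of_pos_of_neg one_pos (by linarith))] at h1
      linarith
  · rw [abs_of_nonneg (show (0 : ℚ) ≤ 1 / q from div_nonneg one_pos.le (by linarith))] at h1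
    rcases hX with hx | hx
    · have h5 : -(1 / 7) ≤ 1 / X := by
        have := one_div_le_one_div_of_le (by norm_num : (0 : ℚ) < 7) (by linarith : 7 ≤ -X)
        rw [div_neg] at this
        linarith
      have e2 : 2 / X = 2 * (1 / X) := by ring
      linarith
    · have h5 : (0 : ℚ) < 2 / X := div_pos two_pos (by linarith)
      linarith

/-- **The sunflower case.** -/
theorem sunflower {g X P P' q q' : ℤ} (hX8 : X % 8 = 1) (hX : X ≤ -7 ∨ 9 ≤ X)
    (hP8 : P % 8 = 3) (hP : P ≤ -21 ∨ 11 ≤ P) (hP8' : P' % 8 = 3) (hP' : P' ≤ -21 ∨ 11 ≤ P')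
    (hq8 : q % 8 = 3) (hq : q ≤ -13 ∨ 35 ≤ q) (hq8' : q' % 8 = 3) (hq' : q' ≤ -13 ∨ 35 ≤ q')
    (s1 : 1 + X + P + P' = 0) (s2 : 1 + X + q + q' = 0)
    (ea : (g : ℚ) * (1 + 1 / X + 9 / P + 9 / P') = 144000)
    (ec : (g : ℚ) * (1 + 1 / X + 25 / q + 25 / q') = 86400) : g = 175560 ∨ g = 189000 := by
  wlog hPP : |P| ≤ |P'| generalizing P P'
  · exact this hP8' hP' hP8 hP (by omega) (by rw [← ea]; ring) (le_of_not_ge hPP)
  wlog hqq : |q| ≤ |q'| generalizing q q'
  · exact this hq8' hq' hq8 hq (by omega) (by rw [← ec]; ring) (le_of_not_ge hqq)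
  have gne : (g : ℚ) ≠ 0 := fun e => by rw [e, zero_mul] at ea; norm_num at ea
  have E : (2 : ℚ) + 2 / X + 125 / q + 125 / q' = 27 / P + 27 / P' := by
    have h : (g : ℚ) * ((2 + 2 / X + 125 / q + 125 / q') - (27 / P + 27 / P')) = 0 := by
      linear_combination 5 * ec - 3 * ea
    linarith [(mul_eq_zero.1 h).resolve_left gne]
  have nX : (X : ℚ) ≠ 0 := Int.cast_ne_zero.2 (by omega)
  have nP : (P : ℚ) ≠ 0 := Int.cast_ne_zero.2 (by omega)
  have nP' : (P' : ℚ) ≠ 0 := Int.cast_ne_zero.2 (by omega)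
  have nq : (q : ℚ) ≠ 0 := Int.cast_ne_zero.2 (by omega)
  have nq' : (q' : ℚ) ≠ 0 := Int.cast_ne_zero.2 (by omega)
  have he : 125 * (P * P') * X = 27 * (q * q') * X + 2 * (P * P') * (q * q') := by
    have h : (125 * (P * P') * X - 27 * (q * q') * X - 2 * (P * P') * (q * q') : ℤ) * (q + q') = 0 := by
      have e1 : (q : ℚ) + q' = -1 - X := by
        have := congrArg (fun z : ℤ => (z : ℚ)) s2
        push_cast at this
        linarith
      have e2 : (P : ℚ) + P' = -1 - X := by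
        have := congrArg (fun z : ℤ => (z : ℚ)) s1
        push_cast at this
        linarith
      field_simp at E
      rw [← @Int.cast_inj ℚ]
      push_cast
      linear_combination E + (27 * (q : ℚ) * q' * X) * e2 -
        (27 * (q : ℚ) * q' * X) * e1 - (2 * (P : ℚ) * P' * q * q') * e1
    have hS : q + q' ≠ 0 := by omega
    linarith [(mul_eq_zero.1 h).resolve_right hS]
  have hmem : (X, q * q') ∈ allowed := by
    by_cases hq1 : q ≤ -13 ∧ -229 ≤ q
    · exact sol_of_q hX8 hX hP8 hq8 hq1.2 hq1.1 hPP (by omega) s1 s2 he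
    by_cases hP1 : 11 ≤ P ∧ P ≤ 51
    · exact sol_of_P hX8 hX hP8 hq8 hP1.1 hP1.2 hqq (by omega) s1 s2 he
    exfalso
    refine small_factor (X := (X : ℚ)) (P := P) (P' := P') (q := q) (q' := q') ?_ ?_ ?_ ?_ ?_ ?_ E
    · rcases hX with h | h
      · exact Or.inl (by exact_mod_cast h)
      · exact Or.inr (by exact_mod_cast h)
    · rcases (show P ≤ -21 ∨ 59 ≤ P by omega) with h | h
      · exact Or.inl (by exact_mod_cast h)
      · exact Or.inr (by exact_mod_cast h)
    · rcases (show q ≤ -237 ∨ 35 ≤ q by omega) with h | h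
      · exact Or.inl (by exact_mod_cast h)
      · exact Or.inr (by exact_mod_cast h)
    · exact_mod_cast hPP
    · exact_mod_cast hqq
    · exact_mod_cast s2
  have hg : g * ((q + q') * (25 * X - q * q')) = 86400 * (q * q') * X := by
    rw [← @Int.cast_inj ℚ]
    push_cast
    have e1 : (q : ℚ) + q' = -1 - X := by
      have := congrArg (fun z : ℤ => (z : ℚ)) s2
      push_cast at this
      linarith
    field_simp at ec
    linear_combination ec - (g : ℚ) * q * q' * e1
  rw [show q + q' = -1 - X by omega] at hg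
  simp only [allowed, List.mem_cons, List.not_mem_nil, or_false, Prod.mk.injEq] at hmem
  rcases hmem with ⟨rfl, e⟩ | ⟨rfl, e⟩ | ⟨rfl, e⟩ | ⟨rfl, e⟩ | ⟨rfl, e⟩ | ⟨rfl, e⟩ <;>
    rw [e] at hg <;> omega

end Cfsg.Agent.J1Degrees
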