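import Cfsg.Agent.Lib.J1Degrees.Vectors
import Cfsg.Agent.Lib.J1Degrees.Sunflower
import Cfsg.Agent.Lib.J1Degrees.Other

/-!
# The order of a simple group with centralizer `Z₂ × A₅` is one of two numbers
-/

set_option autoImplicit false
set_option maxHeartbeats 800000

namespace Cfsg.Agent.J1Degrees

open Local

universe u

/-- Bounds on a signed degree `X = e·deg` of a character with value `e·k` at the involution. -/
theorem signed_bound {d : ℕ} {e k T : ℤ} (he : e = 1 ∨ e = -1) (hT : T = e * k)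
    (hcong : ∃ n : ℕ, (d : ℤ) + 7 * T = 8 * n) (hle : |T| ≤ d) (hne : T ≠ d) :
    (e * d - k) % 8 = 0 ∧
      ((k ≤ e * d ∧ 0 ≤ e * d + 7 * k ∧ e * d ≠ k ∧ 0 ≤ e * d ∧ -(e * d) ≤ k) ∨
        (e * d ≤ k ∧ e * d + 7 * k ≤ 0 ∧ e * d ≠ k ∧ e * d ≤ 0 ∧ k ≤ -(e * d))) := by
  obtain ⟨n, hn⟩ := hcong
  rw [abs_le] at hle
  subst hT
  rcases he with rfl | rfl
  · refine ⟨by omega, Or.inl ?_⟩
    omega
  · refine ⟨by omega, Or.inr ?_⟩
    omega

variable {G : Type u} [Group G] [Finite G] [IsSimpleGroup G] [Fintype G]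
  {V : Fin 4 → IrrCharacter G → ℤ} {π : IrrCharacter G ≃ IrrCharacter G} {t : G}

theorem gram_diag : ∀ i : Fin 4, i ≠ 0 → gram i i = 4 := by decide

theorem gram_off : ∀ i j : Fin 4, i ≠ 0 → j ≠ 0 → i ≠ j → gram i j = 2 := by decide

theorem gram_zero : ∀ i : Fin 4, i ≠ 0 → gram 0 i = 0 := by decide

namespace Comb

open scoped Classical

/-- The support of one of the vectors. -/
noncomputable def supp (V : Fin 4 → IrrCharacter G → ℤ) (i : Fin 4) : Finset (IrrCharacter G) :=
  Finset.univ.filter fun χ => V i χ ≠ 0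

omit [IsSimpleGroup G] in
theorem mem_supp {i : Fin 4} {χ : IrrCharacter G} : χ ∈ supp V i ↔ V i χ ≠ 0 := by
  classical simp [supp]

omit [IsSimpleGroup G] in
theorem deg_pos (χ : IrrCharacter G) : 0 < Char.degree χ := Char.degree_pos χ

variable (H : Vectors V π t)
include H

theorem small_of_four (i : Fin 4) (hi : i ≠ 0) (χ : IrrCharacter G) : V i χ * V i χ ≤ 1 := by
  classical
  refine EightSylow.small_of_norm_four (V i) Char.degree deg_pos ?_ (H.orth i) χ
  rw [H.dot, gram_diag i hi]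

theorem pm_one {i : Fin 4} {χ : IrrCharacter G} (h : V i χ ≠ 0) : V i χ = 1 ∨ V i χ = -1 := by
  classical
  have hb : V i χ * V i χ ≤ 1 := by
    by_cases hi : i = 0
    · subst hi
      have h2 : V 0 χ * V 0 χ ≤ ∑ ψ, V 0 ψ * V 0 ψ :=
        Finset.single_le_sum (fun ψ _ => mul_self_nonneg (V 0 ψ)) (Finset.mem_univ χ)
      rw [H.dot] at h2
      have h3 : gram 0 0 = 2 := rfl
      rw [h3] at h2
      nlinarith [show -1 ≤ V 0 χ ∧ V 0 χ ≤ 1 from ⟨by nlinarith, by nlinarith⟩]
    · exact small_of_four H i hi χ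
  have h1 : -1 ≤ V i χ ∧ V i χ ≤ 1 := ⟨by nlinarith, by nlinarith⟩
  omega

theorem sq_one {i : Fin 4} {χ : IrrCharacter G} (h : V i χ ≠ 0) : V i χ * V i χ = 1 := by
  rcases pm_one H h with e | e <;> rw [e] <;> norm_num

theorem agree {i j : Fin 4} {χ : IrrCharacter G} (hi : i ≠ 0) (hj : j ≠ 0) (h1 : V i χ ≠ 0)
    (h2 : V j χ ≠ 0) : V i χ = V j χ := by
  classical
  by_cases hij : i = j
  · rw [hij]
  have h := EightSylow.small_of_norm_four (fun ψ => V i ψ - V j ψ) Char.degree deg_pos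
    (by
      have e : ∀ ψ, (V i ψ - V j ψ) * (V i ψ - V j ψ) =
          V i ψ * V i ψ + V j ψ * V j ψ - 2 * (V i ψ * V j ψ) := fun ψ => by ring
      simp only [e, Finset.sum_sub_distrib, Finset.sum_add_distrib, ← Finset.mul_sum, H.dot]
      rw [gram_diag i hi, gram_diag j hj, gram_off i j hi hj hij]; norm_num)
    (by simp only [sub_mul, Finset.sum_sub_distrib, H.orth, sub_zero]) χ
  rcases pm_one H h1 with e | e <;> rcases pm_one H h2 with e' | e' <;>
    simp only [e, e'] at h ⊢ <;> norm_num at h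

theorem card_supp (i : Fin 4) : ((supp V i).card : ℤ) = gram i i := by
  classical
  rw [← H.dot, ← Finset.sum_subset (Finset.subset_univ (supp V i)) (fun χ _ hχ => by
    rw [mem_supp, not_not] at hχ; rw [hχ, mul_zero]),
    Finset.sum_congr rfl (g := fun _ => (1 : ℤ)) (fun χ hχ => sq_one H (mem_supp.1 hχ)),
    Finset.sum_const, nsmul_eq_mul, mul_one]

theorem card_inter {i j : Fin 4} (hi : i ≠ 0) (hj : j ≠ 0) :
    ((supp V i ∩ supp V j).card : ℤ) = gram i j := by
  rw [← H.dot, ← Finset.sum_subset (Finset.subset_univ (supp V i ∩ supp V j)) (fun χ _ hχ => by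
    rw [Finset.mem_inter, mem_supp, mem_supp, not_and_or, not_not, not_not] at hχ
    rcases hχ with e | e <;> rw [e] <;> ring),
    Finset.sum_congr rfl (g := fun _ => (1 : ℤ)) (fun χ hχ => by
      rw [Finset.mem_inter, mem_supp, mem_supp] at hχ
      rw [← agree H hi hj hχ.1 hχ.2, sq_one H hχ.1]),
    Finset.sum_const, nsmul_eq_mul, mul_one]

omit H in
theorem pair_of_mem {α : Type*} [DecidableEq α] {s : Finset α} (h : s.card = 2) {z : α} (hz : z ∈ s) :
    ∃ x, x ≠ z ∧ s = {z, x} := by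
  obtain ⟨a, b, hab, rfl⟩ := Finset.card_eq_two.1 h
  rcases Finset.mem_insert.1 hz with rfl | h'
  · exact ⟨b, hab.symm, rfl⟩
  · rw [Finset.mem_singleton] at h'
    subst h'
    exact ⟨a, hab, Finset.pair_comm a z⟩

omit H in
theorem mem_triv (H : Vectors V π t) (i : Fin 4) (hi : i ≠ 0) : Char.trivialChar G ∈ supp V i := by
  rw [mem_supp, H.triv, if_neg hi]; exact one_ne_zero

theorem gal_mem {i : Fin 4} {χ : IrrCharacter G} : π χ ∈ supp V i ↔ χ ∈ supp V (swap12 i) := by
  rw [mem_supp, mem_supp, H.gal]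

/-- The vector of norm two is disjoint from the two conjugate vectors, and is a signed pair. -/
theorem zero_vector {χ : IrrCharacter G} (h : V 0 χ ≠ 0) :
    V 1 χ = 0 ∧ V 2 χ = 0 ∧ ∃ r, r ≠ χ ∧ V 0 r = -V 0 χ ∧ V 3 r = V 3 χ ∧
      Char.degree r = Char.degree χ := by
  classical
  have hc : (supp V 0).card = 2 := by
    have h' := card_supp H 0
    rw [show gram 0 0 = 2 from rfl] at h'
    exact_mod_cast h'
  obtain ⟨r, hr, hP⟩ := pair_of_mem hc (mem_supp.2 h)
  have hr0 : V 0 r ≠ 0 := mem_supp.1 (hP ▸ Finset.mem_insert_of_mem (Finset.mem_singleton_self r))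
  have hsum : ∀ f : IrrCharacter G → ℤ, ∑ ψ, V 0 ψ * f ψ = V 0 χ * f χ + V 0 r * f r := fun f => by
    rw [← Finset.sum_subset (Finset.subset_univ (supp V 0)) (fun ψ _ hψ => by
      rw [mem_supp, not_not] at hψ; rw [hψ, zero_mul]), hP, Finset.sum_pair hr.symm]
  have hd := H.orth 0
  rw [hsum] at hd
  have hdeg : V 0 r = -V 0 χ ∧ Char.degree r = Char.degree χ := by
    have := deg_pos χ
    have := deg_pos r
    rcases pm_one H h with e | e <;> rcases pm_one H hr0 with e' | e' <;> rw [e, e'] at hd <;> omega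
  have hVr : ∀ i, i ≠ 0 → V i r = V i χ := by
    intro i hi
    have h0 := H.dot 0 i
    rw [hsum, hdeg.1, gram_zero i hi] at h0
    have h1 : V 0 χ * (V i χ - V i r) = 0 := by linarith
    have := (mul_eq_zero.1 h1).resolve_left h
    omega
  have hfix : π χ = χ := by
    have h1 : π χ ∈ supp V 0 := (gal_mem H).2 (mem_supp.2 h)
    rw [hP, Finset.mem_insert, Finset.mem_singleton] at h1
    refine h1.resolve_right fun e => ?_
    have h2 := H.gal 0 χ
    rw [e, hdeg.1] at h2
    change -V 0 χ = V 0 χ at h2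
    omega
  have h12 : V 1 χ = V 2 χ := by
    have h2 := H.gal 1 χ
    rw [hfix] at h2
    exact h2
  have h1z : V 1 χ = 0 := by
    by_contra h1
    have hsub : ({Char.trivialChar G, χ, r} : Finset (IrrCharacter G)) ⊆ supp V 1 ∩ supp V 2 := by
      intro ψ hψ
      simp only [Finset.mem_insert, Finset.mem_singleton] at hψ
      rw [Finset.mem_inter, mem_supp, mem_supp]
      rcases hψ with rfl | rfl | rfl
      · rw [H.triv, H.triv]; decide
      · exact ⟨h1, h12 ▸ h1⟩
      · rw [hVr 1 (by decide), hVr 2 (by decide)]; exact ⟨h1, h12 ▸ h1⟩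
    have hzχ : Char.trivialChar G ≠ χ := fun e => h (by rw [← e, H.triv]; rfl)
    have hzr : Char.trivialChar G ≠ r := fun e => hr0 (by rw [← e, H.triv]; rfl)
    have h3 := Finset.card_le_card hsub
    rw [Finset.card_insert_of_notMem (by simp [hzχ, hzr]), Finset.card_pair hr.symm] at h3
    have h4 := card_inter H (i := 1) (j := 2) (by decide) (by decide)
    rw [show gram 1 2 = 2 from rfl] at h4
    omega
  exact ⟨h1z, h12 ▸ h1z, r, hr, hdeg.1, hVr 3 (by decide), hdeg.2⟩

/-- The term of a character in the class equation. -/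
theorem term {i : Fin 4} {χ : IrrCharacter G} {k : ℤ} (hi : V i χ ≠ 0)
    (hv : valT (fun j => V j χ) = V i χ * k) :
    (V i χ : ℚ) * ((valT fun j => V j χ : ℤ) : ℚ) ^ 2 / Char.degree χ =
      (k : ℚ) ^ 2 / ((V i χ * Char.degree χ : ℤ) : ℚ) := by
  rw [hv]
  rcases pm_one H hi with e | e <;> rw [e] <;> push_cast <;> ring

theorem bound {i : Fin 4} {χ : IrrCharacter G} {k : ℤ} (hχ : χ ≠ Char.trivialChar G) (hi : V i χ ≠ 0)
    (hv : valT (fun j => V j χ) = V i χ * k) :
    (V i χ * Char.degree χ - k) % 8 = 0 ∧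
      ((k ≤ V i χ * Char.degree χ ∧ 0 ≤ V i χ * Char.degree χ + 7 * k ∧ V i χ * Char.degree χ ≠ k ∧
          0 ≤ V i χ * Char.degree χ ∧ -(V i χ * Char.degree χ) ≤ k) ∨
        (V i χ * Char.degree χ ≤ k ∧ V i χ * Char.degree χ + 7 * k ≤ 0 ∧ V i χ * Char.degree χ ≠ k ∧
          V i χ * Char.degree χ ≤ 0 ∧ k ≤ -(V i χ * Char.degree χ))) :=
  signed_bound (pm_one H hi) hv (H.cong χ) (H.le χ) (H.ne χ hχ)

/-- Degree and class equations over the four characters of a support. -/
theorem split {i : Fin 4} {z x p q : IrrCharacter G}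
    (hs : supp V i = {z, x} ∪ {p, q}) (hd : Disjoint ({z, x} : Finset (IrrCharacter G)) {p, q})
    (hzx : z ≠ x) (hpq : p ≠ q) :
    (V i z * Char.degree z + V i x * Char.degree x + (V i p * Char.degree p + V i q * Char.degree q) : ℤ) = 0 ∧
      (Nat.card G : ℚ) * ((V i z : ℚ) * ((valT fun j => V j z : ℤ) : ℚ) ^ 2 / Char.degree z +
        (V i x : ℚ) * ((valT fun j => V j x : ℤ) : ℚ) ^ 2 / Char.degree x +
        ((V i p : ℚ) * ((valT fun j => V j p : ℤ) : ℚ) ^ 2 / Char.degree p +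
          (V i q : ℚ) * ((valT fun j => V j q : ℤ) : ℚ) ^ 2 / Char.degree q)) = 120 * (pairVal i : ℚ) := by
  constructor
  · rw [← H.orth i, ← Finset.sum_subset (Finset.subset_univ (supp V i)) (fun χ _ hχ => by
      rw [mem_supp, not_not] at hχ; rw [hχ, zero_mul]), hs, Finset.sum_union hd, Finset.sum_pair hzx,
      Finset.sum_pair hpq]
  · rw [← H.count i, ← Finset.sum_subset (Finset.subset_univ (supp V i)) (fun χ _ hχ => by
      rw [mem_supp, not_not] at hχ; rw [hχ, Int.cast_zero, zero_mul, zero_div]), hs, Finset.sum_union hd,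
      Finset.sum_pair hzx, Finset.sum_pair hpq]

omit H in
theorem valT_eq (χ : IrrCharacter G) (V : Fin 4 → IrrCharacter G → ℤ) :
    valT (fun j => V j χ) = 4 * V 0 χ + 3 * V 1 χ + 3 * V 2 χ - 5 * V 3 χ := rfl

theorem order : Nat.card G = 175560 ∨ Nat.card G = 189000 := by
  classical
  set z := Char.trivialChar G with hzdef
  have hdz : Char.degree z = 1 := by
    have h := Char.apply_one_eq_degree z
    rw [hzdef, Char.trivialChar_apply] at h
    exact_mod_cast h.symm
  have hz : ∀ i : Fin 4, i ≠ 0 → V i z = 1 := fun i hi => by rw [hzdef, H.triv, if_neg hi]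
  have hz0 : V 0 z = 0 := by rw [hzdef, H.triv]; rfl
  have c4 : ∀ i : Fin 4, i ≠ 0 → (supp V i).card = 4 := fun i hi => by
    have h := card_supp H i
    rw [gram_diag i hi] at h
    exact_mod_cast h
  have c2 : ∀ i j : Fin 4, i ≠ 0 → j ≠ 0 → i ≠ j → (supp V i ∩ supp V j).card = 2 := fun i j hi hj hij => by
    have h := card_inter H hi hj
    rw [gram_off i j hi hj hij] at h
    exact_mod_cast h
  have d2 : ∀ i j : Fin 4, i ≠ 0 → j ≠ 0 → i ≠ j → (supp V i \ supp V j).card = 2 := fun i j hi hj hij => by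
    have h := Finset.card_sdiff_add_card_inter (supp V i) (supp V j)
    rw [c4 i hi, c2 i j hi hj hij] at h
    omega
  obtain ⟨x, hxz, h12⟩ := pair_of_mem (c2 1 2 (by decide) (by decide) (by decide))
    (Finset.mem_inter.2 ⟨mem_triv H 1 (by decide), mem_triv H 2 (by decide)⟩ : z ∈ supp V 1 ∩ supp V 2)
  have hx12 : x ∈ supp V 1 ∩ supp V 2 := h12 ▸ Finset.mem_insert_of_mem (Finset.mem_singleton_self x)
  rw [Finset.mem_inter, mem_supp, mem_supp] at hx12
  have hx0 : V 0 x = 0 := by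
    by_contra h
    exact hx12.1 (zero_vector H h).1
  have hx2 : V 2 x = V 1 x := agree H (by decide) (by decide) hx12.2 hx12.1
  have f1 : (1 : Fin 4) ≠ 0 := by decide
  have f2 : (2 : Fin 4) ≠ 0 := by decide
  have f3 : (3 : Fin 4) ≠ 0 := by decide
  by_cases hx3 : V 3 x = 0
  · -- the triangle
    obtain ⟨y, hyz, h13⟩ := pair_of_mem (c2 1 3 f1 f3 (by decide))
      (Finset.mem_inter.2 ⟨mem_triv H 1 f1, mem_triv H 3 f3⟩ : z ∈ supp V 1 ∩ supp V 3)
    have hy13 : y ∈ supp V 1 ∩ supp V 3 := h13 ▸ Finset.mem_insert_of_mem (Finset.mem_singleton_self y)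
    rw [Finset.mem_inter, mem_supp, mem_supp] at hy13
    have hyx : y ≠ x := fun e => hy13.2 (e ▸ hx3)
    have hy2 : V 2 y = 0 := by
      by_contra h
      have hm : y ∈ supp V 1 ∩ supp V 2 :=
        Finset.mem_inter.2 ⟨mem_supp.2 hy13.1, mem_supp.2 h⟩
      rw [h12, Finset.mem_insert, Finset.mem_singleton] at hm
      exact hm.elim hyz hyx
    obtain ⟨a, hay, h1d⟩ := pair_of_mem (d2 1 2 f1 f2 (by decide))
      (Finset.mem_sdiff.2 ⟨mem_supp.2 hy13.1, fun h => mem_supp.1 h hy2⟩)
    have ha : a ∈ supp V 1 \ supp V 2 := h1d ▸ Finset.mem_insert_of_mem (Finset.mem_singleton_self a)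
    rw [Finset.mem_sdiff, mem_supp, mem_supp, not_not] at ha
    have haz : a ≠ z := fun e => one_ne_zero ((hz 2 f2).symm.trans (e ▸ ha.2))
    have ha3 : V 3 a = 0 := by
      by_contra h
      have hm : a ∈ supp V 1 ∩ supp V 3 := Finset.mem_inter.2 ⟨mem_supp.2 ha.1, mem_supp.2 h⟩
      rw [h13, Finset.mem_insert, Finset.mem_singleton] at hm
      exact hm.elim haz hay
    have ha0 : V 0 a = 0 := by
      by_contra h
      exact ha.1 (zero_vector H h).1
    have hy0 : V 0 y = 0 := by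
      by_contra h
      exact hy13.1 (zero_vector H h).1
    set w := π y with hw
    have hw2 : V 2 w = V 1 y := H.gal 2 y
    have hw1 : V 1 w = 0 := (H.gal 1 y).trans hy2
    have hw3 : V 3 w = V 3 y := H.gal 3 y
    have hw0 : V 0 w = 0 := (H.gal 0 y).trans hy0
    have hy3 : V 3 y = V 1 y := agree H f3 f1 hy13.2 hy13.1
    have hwd : Char.degree w = Char.degree y := H.gal_deg y
    obtain ⟨c, hcw, h31⟩ := pair_of_mem (d2 3 1 f3 f1 (by decide))
      (Finset.mem_sdiff.2 ⟨mem_supp.2 (hw3 ▸ hy13.2), fun h => mem_supp.1 h hw1⟩)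
    have hc : c ∈ supp V 3 \ supp V 1 := h31 ▸ Finset.mem_insert_of_mem (Finset.mem_singleton_self c)
    rw [Finset.mem_sdiff, mem_supp, mem_supp, not_not] at hc
    have hcz : c ≠ z := fun e => one_ne_zero ((hz 1 f1).symm.trans (e ▸ hc.2))
    have hwz : w ≠ z := fun e => one_ne_zero ((hz 1 f1).symm.trans (e ▸ hw1))
    have hc2 : V 2 c = 0 := by
      by_contra h
      obtain ⟨v, -, h23⟩ := pair_of_mem (c2 2 3 f2 f3 (by decide))
        (Finset.mem_inter.2 ⟨mem_triv H 2 f2, mem_triv H 3 f3⟩ : z ∈ supp V 2 ∩ supp V 3)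
      have hwm : w ∈ supp V 2 ∩ supp V 3 :=
        Finset.mem_inter.2 ⟨mem_supp.2 (hw2 ▸ hy13.1), mem_supp.2 (hw3 ▸ hy13.2)⟩
      have hcm : c ∈ supp V 2 ∩ supp V 3 := Finset.mem_inter.2 ⟨mem_supp.2 h, mem_supp.2 hc.1⟩
      rw [h23, Finset.mem_insert, Finset.mem_singleton] at hwm hcm
      exact hcw ((hcm.resolve_left hcz).trans (hwm.resolve_left hwz).symm)
    have hc0 : V 0 c = 0 := by
      by_contra h
      obtain ⟨-, -, r, hrc, hr0, hr3, -⟩ := zero_vector H h
      have hr0' : V 0 r ≠ 0 := by rw [hr0]; omega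
      have hrm : r ∈ supp V 3 \ supp V 1 :=
        Finset.mem_sdiff.2 ⟨mem_supp.2 (hr3 ▸ hc.1), fun h' => mem_supp.1 h' (zero_vector H hr0').1⟩
      rw [h31, Finset.mem_insert, Finset.mem_singleton] at hrm
      exact hr0' ((hrm.resolve_right hrc) ▸ hw0)
    have hs1 : supp V 1 = {z, x} ∪ {y, a} := by
      rw [← h12, ← h1d, Finset.union_comm, Finset.sdiff_union_inter]
    have hs3 : supp V 3 = {z, y} ∪ {w, c} := by
      rw [← h13, ← h31, Finset.union_comm, Finset.inter_comm, Finset.sdiff_union_inter]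
    obtain ⟨e1, E1⟩ := split H hs1 (by rw [← h12, ← h1d]; exact (Finset.disjoint_sdiff_inter _ _).symm)
      hxz.symm hay.symm
    obtain ⟨e3, E3⟩ := split H hs3 (by
      rw [← h13, ← h31, Finset.inter_comm]; exact (Finset.disjoint_sdiff_inter _ _).symm)
      hyz.symm hcw.symm
    have vz : valT (fun j => V j z) = V 1 z * 1 := by
      rw [valT_eq, hz0, hz 1 f1, hz 2 f2, hz 3 f3]; norm_num
    have vz3 : valT (fun j => V j z) = V 3 z * 1 := by rw [vz, hz 1 f1, hz 3 f3]
    have vx : valT (fun j => V j x) = V 1 x * 6 := by rw [valT_eq, hx0, hx2, hx3]; ring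
    have vy : valT (fun j => V j y) = V 1 y * -2 := by rw [valT_eq, hy0, hy2, hy3]; ring
    have vy3 : valT (fun j => V j y) = V 3 y * -2 := by rw [vy, hy3]
    have va : valT (fun j => V j a) = V 1 a * 3 := by rw [valT_eq, ha0, ha.2, ha3]; ring
    have vw : valT (fun j => V j w) = V 3 w * -2 := by rw [valT_eq, hw0, hw1, hw2, hw3, hy3]; ring
    have vc : valT (fun j => V j c) = V 3 c * -5 := by rw [valT_eq, hc0, hc.2, hc2]; ring
    rw [term H (by rw [hz 1 f1]; decide) vz, term H hx12.1 vx, term H hy13.1 vy, term H ha.1 va] at E1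
    rw [term H (by rw [hz 3 f3]; decide) vz3, term H hy13.2 vy3, term H (hw3 ▸ hy13.2) vw,
      term H hc.1 vc] at E3
    rw [hz 1 f1, hdz] at e1 E1
    rw [hz 3 f3, hdz, hw3, hwd, hy3] at e3 E3
    have bx := bound H hxz hx12.1 vx
    have by' := bound H hyz hy13.1 vy
    have ba := bound H haz ha.1 va
    set X : ℤ := V 1 x * Char.degree x
    set Y : ℤ := V 1 y * Char.degree y
    set A : ℤ := V 1 a * Char.degree a
    have hC : V 3 c * (Char.degree c : ℤ) = -1 - 2 * Y := by omega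
    rw [hC] at E3
    exfalso
    refine triangle (g := Nat.card G) (x := X) (y := Y) (a := A) (by omega) (by omega) (by omega) (by omega)
      (by omega) (by omega) (by omega) ?_ ?_
    · simp only [pairVal, Matrix.cons_val_one, Matrix.cons_val_zero] at E1
      push_cast at E1 ⊢
      linear_combination E1
    · simp only [pairVal, Matrix.cons_val, Matrix.cons_val_zero] at E3
      push_cast at E3 ⊢
      linear_combination E3
  · -- the sunflower
    have hx31 : V 3 x = V 1 x := agree H f3 f1 hx3 hx12.1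
    have hin : ∀ i : Fin 4, i ≠ 0 → i ≠ 3 → supp V i ∩ supp V 3 = {z, x} := by
      intro i hi hi3
      refine (Finset.eq_of_subset_of_card_le ?_ ?_).symm
      · intro ψ hψ
        rw [Finset.mem_insert, Finset.mem_singleton] at hψ
        rw [Finset.mem_inter, mem_supp, mem_supp]
        rcases hψ with rfl | rfl
        · rw [hz i hi, hz 3 f3]; decide
        · refine ⟨?_, hx3⟩
          rcases (show i = 1 ∨ i = 2 by revert hi hi3; revert i; decide) with rfl | rfl
          · exact hx12.1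
          · exact hx12.2
      · rw [c2 i 3 hi f3 hi3, Finset.card_pair hxz.symm]
    obtain ⟨p, p', hpp, h1d⟩ := Finset.card_eq_two.1 (d2 1 2 f1 f2 (by decide))
    obtain ⟨q, q', hqq, h31⟩ := Finset.card_eq_two.1 (d2 3 1 f3 f1 (by decide))
    have hP : ∀ ψ ∈ supp V 1 \ supp V 2, V 1 ψ ≠ 0 ∧ valT (fun j => V j ψ) = V 1 ψ * 3 ∧ ψ ≠ z := by
      intro ψ hψ
      rw [Finset.mem_sdiff, mem_supp, mem_supp, not_not] at hψ
      have h3 : V 3 ψ = 0 := by
        by_contra h
        have hm : ψ ∈ supp V 1 ∩ supp V 3 := Finset.mem_inter.2 ⟨mem_supp.2 hψ.1, mem_supp.2 h⟩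
        rw [hin 1 f1 (by decide), Finset.mem_insert, Finset.mem_singleton] at hm
        rcases hm with e | e
        · exact one_ne_zero ((hz 2 f2).symm.trans (e ▸ hψ.2))
        · exact hx12.2 (e ▸ hψ.2)
      have h0 : V 0 ψ = 0 := by
        by_contra h
        exact hψ.1 (zero_vector H h).1
      refine ⟨hψ.1, by rw [valT_eq, h0, hψ.2, h3]; ring, fun e => one_ne_zero ((hz 2 f2).symm.trans (e ▸ hψ.2))⟩
    have hQ : ∀ ψ ∈ supp V 3 \ supp V 1, V 3 ψ ≠ 0 ∧ V 1 ψ = 0 ∧ V 2 ψ = 0 ∧ ψ ≠ z := by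
      intro ψ hψ
      rw [Finset.mem_sdiff, mem_supp, mem_supp, not_not] at hψ
      have hψz : ψ ≠ z := fun e => one_ne_zero ((hz 1 f1).symm.trans (e ▸ hψ.2))
      refine ⟨hψ.1, hψ.2, ?_, hψz⟩
      by_contra h
      have hm : ψ ∈ supp V 2 ∩ supp V 3 := Finset.mem_inter.2 ⟨mem_supp.2 h, mem_supp.2 hψ.1⟩
      rw [hin 2 f2 (by decide), Finset.mem_insert, Finset.mem_singleton] at hm
      exact hx12.1 ((hm.resolve_left hψz) ▸ hψ.2)
    have hs1 : supp V 1 = {z, x} ∪ {p, p'} := by
      rw [← h12, ← h1d, Finset.union_comm, Finset.sdiff_union_inter]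
    have hs3 : supp V 3 = {z, x} ∪ {q, q'} := by
      rw [← hin 1 f1 (by decide), ← h31, Finset.union_comm, Finset.inter_comm, Finset.sdiff_union_inter]
    obtain ⟨e1, E1⟩ := split H hs1 (by rw [← h12, ← h1d]; exact (Finset.disjoint_sdiff_inter _ _).symm)
      hxz.symm hpp
    obtain ⟨e3, E3⟩ := split H hs3 (by
      rw [← hin 1 f1 (by decide), ← h31, Finset.inter_comm]; exact (Finset.disjoint_sdiff_inter _ _).symm)
      hxz.symm hqq
    have vz : valT (fun j => V j z) = V 1 z * 1 := by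
      rw [valT_eq, hz0, hz 1 f1, hz 2 f2, hz 3 f3]; norm_num
    have vz3 : valT (fun j => V j z) = V 3 z * 1 := by rw [vz, hz 1 f1, hz 3 f3]
    have vx : valT (fun j => V j x) = V 1 x * 1 := by rw [valT_eq, hx0, hx2, hx31]; ring
    have vx3 : valT (fun j => V j x) = V 3 x * 1 := by rw [vx, hx31]
    obtain ⟨hp1, vp, hpz⟩ := hP p (h1d ▸ Finset.mem_insert_self _ _)
    obtain ⟨hp1', vp', hpz'⟩ := hP p' (h1d ▸ Finset.mem_insert_of_mem (Finset.mem_singleton_self _))
    obtain ⟨hq3, hq1, hq2, hqz⟩ := hQ q (h31 ▸ Finset.mem_insert_self _ _)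
    obtain ⟨hq3', hq1', hq2', hqz'⟩ := hQ q' (h31 ▸ Finset.mem_insert_of_mem (Finset.mem_singleton_self _))
    rw [term H (by rw [hz 1 f1]; decide) vz, term H hx12.1 vx, term H hp1 vp, term H hp1' vp'] at E1
    rw [term H (by rw [hz 3 f3]; decide) vz3, term H hx3 vx3] at E3
    rw [hz 1 f1, hdz] at e1 E1
    rw [hz 3 f3, hdz, hx31] at e3 E3
    have bx := bound H hxz hx12.1 vx
    have bp := bound H hpz hp1 vp
    have bp' := bound H hpz' hp1' vp'
    have hxbig : 1 < Char.degree x := H.big x hxz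
    have hxX : V 1 x * (Char.degree x : ℤ) ≠ -1 := by
      rcases pm_one H hx12.1 with e | e <;> rw [e] <;> omega
    by_cases hq0 : V 0 q = 0
    · have hq0' : V 0 q' = 0 := by
        by_contra h
        obtain ⟨-, -, r, hr, hr0, hr3, -⟩ := zero_vector H h
        have hr0' : V 0 r ≠ 0 := by rw [hr0]; omega
        have hrm : r ∈ supp V 3 \ supp V 1 :=
          Finset.mem_sdiff.2 ⟨mem_supp.2 (hr3 ▸ hq3'), fun h' => mem_supp.1 h' (zero_vector H hr0').1⟩
        rw [h31, Finset.mem_insert, Finset.mem_singleton] at hrm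
        exact hr0' ((hrm.resolve_right hr) ▸ hq0)
      have vq : valT (fun j => V j q) = V 3 q * -5 := by rw [valT_eq, hq0, hq1, hq2]; ring
      have vq' : valT (fun j => V j q') = V 3 q' * -5 := by rw [valT_eq, hq0', hq1', hq2']; ring
      rw [term H hq3 vq, term H hq3' vq'] at E3
      have bq := bound H hqz hq3 vq
      have bq' := bound H hqz' hq3' vq'
      set X : ℤ := V 1 x * Char.degree x
      set P : ℤ := V 1 p * Char.degree p
      set P' : ℤ := V 1 p' * Char.degree p'
      set Q : ℤ := V 3 q * Char.degree q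
      set Q' : ℤ := V 3 q' * Char.degree q'
      have h := sunflower (g := Nat.card G) (X := X) (P := P) (P' := P') (q := Q) (q' := Q') (by omega)
        (by omega) (by omega) (by omega) (by omega) (by omega) (by omega) (by omega) (by omega) (by omega)
        (by omega) (by omega) (by
          simp only [pairVal, Matrix.cons_val_one, Matrix.cons_val_zero] at E1
          push_cast at E1 ⊢
          linear_combination E1) (by
          simp only [pairVal, Matrix.cons_val, Matrix.cons_val_zero] at E3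
          push_cast at E3 ⊢
          linear_combination E3)
      omega
    · exfalso
      obtain ⟨-, -, r, hr, hr0, hr3, hrd⟩ := zero_vector H hq0
      have hr0' : V 0 r ≠ 0 := by rw [hr0]; omega
      have hrm : r ∈ supp V 3 \ supp V 1 :=
        Finset.mem_sdiff.2 ⟨mem_supp.2 (hr3 ▸ hq3), fun h' => mem_supp.1 h' (zero_vector H hr0').1⟩
      rw [h31, Finset.mem_insert, Finset.mem_singleton] at hrm
      obtain rfl := hrm.resolve_left hr
      have hk : ∃ k k' : ℤ, ((k = -1 ∧ k' = -9) ∨ (k = -9 ∧ k' = -1)) ∧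
          valT (fun j => V j q) = V 3 q * k ∧ valT (fun j => V j r) = V 3 r * k' := by
        simp only [valT_eq, hq1, hq2, hq1', hq2', hr0, hr3]
        rcases pm_one H hq0 with e | e <;> rcases pm_one H hq3 with e' | e' <;> rw [e, e']
        · exact ⟨-1, -9, Or.inl ⟨rfl, rfl⟩, by norm_num, by norm_num⟩
        · exact ⟨-9, -1, Or.inr ⟨rfl, rfl⟩, by norm_num, by norm_num⟩
        · exact ⟨-9, -1, Or.inr ⟨rfl, rfl⟩, by norm_num, by norm_num⟩
        · exact ⟨-1, -9, Or.inl ⟨rfl, rfl⟩, by norm_num, by norm_num⟩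
      obtain ⟨k, k', hkk, vq, vr⟩ := hk
      rw [term H hq3 vq, term H hq3' vr] at E3
      have bq := bound H hqz hq3 vq
      have bq' := bound H hqz' hq3' vr
      rw [hr3, hrd] at e3 E3 bq'
      set X : ℤ := V 1 x * Char.degree x
      set P : ℤ := V 1 p * Char.degree p
      set P' : ℤ := V 1 p' * Char.degree p'
      set R : ℤ := V 3 q * Char.degree q
      refine overlap (g := Nat.card G) (X := X) (P := P) (P' := P') (R := R) (by omega) (by omega)
        (by omega) (by rcases hkk with ⟨rfl, rfl⟩ | ⟨rfl, rfl⟩ <;> omega)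
        (by rcases hkk with ⟨rfl, rfl⟩ | ⟨rfl, rfl⟩ <;> omega) (by omega) (by omega) ?_ ?_
      · simp only [pairVal, Matrix.cons_val_one, Matrix.cons_val_zero] at E1
        push_cast at E1 ⊢
        linear_combination E1
      · simp only [pairVal, Matrix.cons_val, Matrix.cons_val_zero] at E3
        rcases hkk with ⟨rfl, rfl⟩ | ⟨rfl, rfl⟩ <;> push_cast at E3 ⊢ <;> linear_combination E3

end Comb

/-- **The order is one of two numbers.** -/
theorem card_of_local {G : Type u} [Group G] [Finite G] [IsSimpleGroup G] (t : G)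
    (ht : Cfsg.IsTwoCentralInvolution t) (e : ↥(Subgroup.centralizer ({t} : Set G)) ≃* M0) :
    Nat.card G = 175560 ∨ Nat.card G = 189000 := by
  haveI := Fintype.ofFinite G
  obtain ⟨D, rfl⟩ := exists_local t ht e
  obtain ⟨V, π, H⟩ := D.exists_vectors
  exact Comb.order H

end Cfsg.Agent.J1Degrees
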