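import Cfsg.Agent.Lib.J1Degrees.AltTable
import Cfsg.Agent.Lib.Char.Induction
import Cfsg.Agent.Lib.Char.PermChar
import Cfsg.Agent.Lib.CharInt.Basic
import Mathlib.Analysis.SpecialFunctions.Complex.Circle
import Mathlib.RingTheory.RootsOfUnity.Complex
import Mathlib.Analysis.Normed.Field.UnitBall

/-!
# The generalized characters of `Z₂ × A₅` used for Janko's order formula
-/

set_option autoImplicit false
set_option maxHeartbeats 400000

namespace Cfsg.Agent.J1Degrees

open Cfsg.Agent.HJType.AltFive (A5 g5 h3)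
open scoped ComplexConjugate

universe u

/-- A character induced from a cyclic subgroup, as a sum over the powers of the generator. -/
theorem isCharacter_indCyclic {A : Type u} [Group A] [Fintype A] [DecidableEq A] (g : A) (n : ℕ) (hn0 : 1 < n)
    (hn : g ^ n = 1) (hinj : ∀ i j : Fin n, g ^ (i : ℕ) = g ^ (j : ℕ) → i = j) (ζ : ℂ) (hζ : ζ ^ n = 1) :
    Cfsg.IsCharacter A (fun a => (n : ℂ)⁻¹ *
      ∑ j : Fin n, ((Finset.univ.filter fun x : A => x⁻¹ * a * x = g ^ (j : ℕ)).card : ℂ) * ζ ^ (j : ℕ)) := by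
  have hord : orderOf g = n := by
    refine (Nat.le_of_dvd (by omega) (orderOf_dvd_of_pow_eq_one hn)).antisymm ?_
    by_contra h
    push Not at h
    have h2 := hinj ⟨orderOf g, h⟩ ⟨0, by omega⟩ (by simp [pow_orderOf_eq_one])
    exact (orderOf_pos g).ne' (congrArg Fin.val h2)
  let u : ℂˣ := Units.ofPowEqOne ζ n hζ (by omega)
  have hu : u ^ n = 1 := Units.pow_ofPowEqOne _ _
  let g' : Subgroup.zpowers g := ⟨g, Subgroup.mem_zpowers g⟩
  have hgen : ∀ x : Subgroup.zpowers g, x ∈ Subgroup.zpowers g' := by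
    rintro ⟨x, hx⟩
    obtain ⟨k, rfl⟩ := Subgroup.mem_zpowers_iff.1 hx
    exact ⟨k, Subtype.ext (by simp [g'])⟩
  have hord' : orderOf u ∣ orderOf g' := by
    rw [← Subgroup.orderOf_coe]
    show orderOf u ∣ orderOf g
    rw [hord]
    exact orderOf_dvd_of_pow_eq_one hu
  let lam : Subgroup.zpowers g →* ℂ :=
    (Units.coeHom ℂ).comp (monoidHomOfForallMemZpowers hgen hord')
  have hlam : ∀ j : ℕ, lam (g' ^ j) = ζ ^ j := fun j => by
    rw [map_pow]
    simp [lam, u]
  have h := Char.isCharacter_indFun (Subgroup.zpowers g)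
    (Char.IsIrrCharacter.isCharacter (Char.isIrrCharacter_of_monoidHom lam))
  have hext : ∀ y : A, Cfsg.extendByZero (Subgroup.zpowers g) (lam : Subgroup.zpowers g → ℂ) y =
      ∑ j : Fin n, if y = g ^ (j : ℕ) then ζ ^ (j : ℕ) else 0 := by
    intro y
    by_cases hy : y ∈ Subgroup.zpowers g
    · obtain ⟨k, hk, rfl⟩ : ∃ k, k < n ∧ g ^ k = y := by
        have := (mem_powers_iff_mem_zpowers.2 hy)
        obtain ⟨k, rfl⟩ := this
        exact ⟨k % n, Nat.mod_lt _ (by omega), by rw [← hord, pow_mod_orderOf]⟩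
      rw [Finset.sum_eq_single ⟨k, hk⟩ (fun j _ hj => if_neg fun e => hj (hinj _ _ e.symm))
        (fun h => absurd (Finset.mem_univ _) h), if_pos rfl, Char.extendByZero_of_mem _ _ hy, ← hlam k]
      exact congrArg lam (Subtype.ext (by simp [g']))
    · rw [Char.extendByZero_of_notMem _ _ hy]
      refine (Finset.sum_eq_zero fun j _ => if_neg ?_).symm
      rintro rfl
      exact hy (Subgroup.pow_mem _ (Subgroup.mem_zpowers g) _)
  convert h using 1
  funext a
  simp only [Cfsg.indFun, hext]
  rw [Finset.sum_comm, Nat.card_zpowers, hord]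
  congr 1
  refine Finset.sum_congr rfl fun j _ => ?_
  rw [← Finset.sum_filter, Finset.sum_const, nsmul_eq_mul]

/-- A primitive fifth root of unity. -/
noncomputable def zeta : ℂ := Complex.exp (2 * Real.pi * Complex.I / (5 : ℕ))

theorem zeta_prim : IsPrimitiveRoot zeta 5 := Complex.isPrimitiveRoot_exp 5 (by norm_num)

theorem zeta_pow : zeta ^ 5 = 1 := zeta_prim.pow_eq_one

theorem zeta_sum : 1 + zeta + zeta ^ 2 + zeta ^ 3 + zeta ^ 4 = 0 := by
  have h := zeta_prim.geom_sum_eq_zero (by norm_num)
  simp only [Finset.sum_range_succ, Finset.sum_range_zero, pow_zero, pow_one, zero_add] at h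
  exact h

theorem conj_zeta : conj zeta = zeta ^ 4 := by
  rw [← Complex.inv_eq_conj (Complex.norm_eq_one_of_pow_eq_one zeta_pow (by norm_num))]
  exact inv_eq_of_mul_eq_one_right (by rw [← pow_succ', zeta_pow])

/-- The first period. -/
noncomputable def c1 : ℂ := zeta + zeta ^ 4

/-- The second period. -/
noncomputable def c2 : ℂ := zeta ^ 2 + zeta ^ 3

theorem c_add : c1 + c2 = -1 := by rw [c1, c2]; linear_combination zeta_sum

theorem c_mul : c1 * c2 = -1 := by
  rw [c1, c2]
  linear_combination zeta_sum + (zeta + zeta ^ 2) * zeta_pow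

theorem conj_c1 : conj c1 = c1 := by
  rw [c1, map_add, map_pow, conj_zeta]
  linear_combination (zeta ^ 11 + zeta ^ 6 + zeta) * zeta_pow

theorem conj_c2 : conj c2 = c2 := by
  rw [c2, map_add, map_pow, map_pow, conj_zeta]
  linear_combination (zeta ^ 7 + zeta ^ 2 + zeta ^ 3) * zeta_pow

/-- The four class functions. -/
noncomputable def vals : Fin 4 → Fin 5 → ℂ :=
  ![![4, 0, 1, -1, -1], ![4, 0, 1, 1 - c2, 1 - c1], ![4, 0, 1, 1 - c1, 1 - c2], ![-4, 0, 2, 1, 1]]

theorem conj_vals : ∀ i k, conj (vals i k) = vals i k := by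
  intro i k
  fin_cases i <;> fin_cases k <;> simp [vals, conj_c1, conj_c2, map_ofNat]

theorem vals_inv : ∀ i, vals i 1 = 0 := by intro i; fin_cases i <;> simp [vals]

theorem isGeneralizedCharacter_phi0 :
    Cfsg.IsGeneralizedCharacter A5 (fun a => vals 0 (cls a)) := by
  classical
  refine ⟨_, _, Char.isCharacter_fixedBy (G := A5) (Fin 5), Char.isCharacter_one, ?_⟩
  funext a
  have h : Nat.card (MulAction.fixedBy (Fin 5) a) = cfix (cls a) := by
    rw [← card_fix a, Nat.card_eq_fintype_card, ← Fintype.card_subtype]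
    exact Fintype.card_congr (Equiv.subtypeEquivRight fun i => Iff.rfl)
  simp only [Pi.sub_apply, h]
  generalize cls a = k
  fin_cases k <;> norm_num [vals, cfix]

/-- The character induced from the cyclic group of order five. -/
noncomputable def ind5 (e : ℂ) (a : A5) : ℂ :=
  (5 : ℂ)⁻¹ * ∑ j : Fin 5, (hit5 (cls a) j : ℂ) * e ^ (j : ℕ)

/-- The character induced from the cyclic group of order three. -/
noncomputable def ind3 (e : ℂ) (a : A5) : ℂ :=
  (3 : ℂ)⁻¹ * ∑ j : Fin 3, (hit3 (cls a) j : ℂ) * e ^ (j : ℕ)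

theorem isCharacter_ind5 {e : ℂ} (he : e ^ 5 = 1) : Cfsg.IsCharacter A5 (ind5 e) := by
  have h := isCharacter_indCyclic g5 5 (by norm_num) (by decide +kernel) g5_pow e he
  convert h using 1
  funext a
  simp only [ind5, ← card_hit5, Nat.cast_ofNat]

theorem isCharacter_ind3 {e : ℂ} (he : e ^ 3 = 1) : Cfsg.IsCharacter A5 (ind3 e) := by
  have h := isCharacter_indCyclic h3 3 (by norm_num) (by decide +kernel) h3_pow e he
  convert h using 1
  funext a
  simp only [ind3, ← card_hit3, Nat.cast_ofNat]

theorem isGeneralizedCharacter_phi : ∀ i, Cfsg.IsGeneralizedCharacter A5 (fun a => vals i (cls a)) := by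
  have h5 : ∀ e : ℂ, e ^ 5 = 1 → Cfsg.IsGeneralizedCharacter A5 (ind5 1 - ind5 e) := fun e he =>
    ⟨_, _, isCharacter_ind5 (one_pow 5), isCharacter_ind5 he, rfl⟩
  intro i
  fin_cases i
  · exact isGeneralizedCharacter_phi0
  · have h := Char.IsGeneralizedCharacter.add isGeneralizedCharacter_phi0
      (h5 (zeta ^ 2) (by rw [← pow_mul, pow_mul', zeta_pow, one_pow]))
    convert h using 1
    funext a
    simp only [Pi.add_apply, Pi.sub_apply, ind5]
    generalize cls a = k
    fin_cases k <;> simp [vals, hit5, Fin.sum_univ_five, c1, c2] <;>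
      first | ring1 | linear_combination (zeta ^ 3) * zeta_pow | linear_combination zeta * zeta_pow
  · have h := Char.IsGeneralizedCharacter.add isGeneralizedCharacter_phi0 (h5 zeta zeta_pow)
    convert h using 1
    funext a
    simp only [Pi.add_apply, Pi.sub_apply, ind5]
    generalize cls a = k
    fin_cases k <;> simp [vals, hit5, Fin.sum_univ_five, c1, c2] <;> ring1
  · obtain ⟨w, hw⟩ : ∃ w : ℂ, IsPrimitiveRoot w 3 := ⟨_, Complex.isPrimitiveRoot_exp 3 (by norm_num)⟩
    have hs := hw.geom_sum_eq_zero (by norm_num)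
    simp only [Finset.sum_range_succ, Finset.sum_range_zero, pow_zero, pow_one, zero_add] at hs
    have h := Char.IsGeneralizedCharacter.sub
      (⟨_, _, isCharacter_ind3 (one_pow 3), isCharacter_ind3 hw.pow_eq_one, rfl⟩ :
        Cfsg.IsGeneralizedCharacter A5 (ind3 1 - ind3 w)) isGeneralizedCharacter_phi0
    convert h using 1
    funext a
    simp only [Pi.sub_apply, ind3]
    generalize cls a = k
    fin_cases k <;> simp [vals, hit3, Fin.sum_univ_three] <;>
      first | ring1 | linear_combination hs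

/-- The four functions on `Z₂ × A₅`. -/
noncomputable def theta (i : Fin 4) (p : Multiplicative (ZMod 2) × A5) : ℂ :=
  if p.1 = 1 then 0 else 2 * vals i (cls p.2)

theorem isGeneralizedCharacter_theta (i : Fin 4) :
    Cfsg.IsGeneralizedCharacter (Multiplicative (ZMod 2) × A5) (theta i) := by
  classical
  let eps : Multiplicative (ZMod 2) →* ℂ :=
    { toFun := fun z => if z = 1 then 1 else -1
      map_one' := if_pos rfl
      map_mul' := by
        intro x y
        have key : ∀ x : Multiplicative (ZMod 2), x = 1 ∨ x = Multiplicative.ofAdd 1 := by decide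
        rcases key x with rfl | rfl <;> rcases key y with rfl | rfl <;>
          simp [show (Multiplicative.ofAdd (1 : ZMod 2)) ≠ 1 by decide,
            show Multiplicative.ofAdd (1 : ZMod 2) * Multiplicative.ofAdd 1 = 1 by decide] }
  have h1 : Cfsg.IsGeneralizedCharacter (Multiplicative (ZMod 2) × A5)
      ((fun _ => (1 : ℂ)) - fun p => eps p.1) :=
    ⟨_, _, Char.isCharacter_one, Char.IsCharacter.comp
      (Char.IsIrrCharacter.isCharacter (Char.isIrrCharacter_of_monoidHom eps)) (MonoidHom.fst _ _), rfl⟩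
  have h2 := Char.IsGeneralizedCharacter.mul h1
    (Char.IsGeneralizedCharacter.comp (isGeneralizedCharacter_phi i) (MonoidHom.snd _ _))
  convert h2 using 1
  funext p
  simp only [theta, Pi.mul_apply, Pi.sub_apply, MonoidHom.coe_mk, OneHom.coe_mk, eps, MonoidHom.coe_snd]
  split_ifs <;> ring

theorem theta_ne_zero {i : Fin 4} {p : Multiplicative (ZMod 2) × A5} (h : theta i p ≠ 0) :
    p.1 = Multiplicative.ofAdd 1 ∧ (p.2 * p.2 * p.2 = 1 ∨ p.2 * p.2 * p.2 * p.2 * p.2 = 1) := by
  rw [theta] at h
  split_ifs at h with h1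
  · exact absurd rfl h
  · refine ⟨((show ∀ x : Multiplicative (ZMod 2), x = 1 ∨ x = Multiplicative.ofAdd 1 by decide) p.1).resolve_left h1,
      cls_odd _ fun e => h ?_⟩
    rw [e, vals_inv, mul_zero]

/-- Sums over the class of `A₅`. -/
theorem sum_cls (F : Fin 5 → ℂ) : ∑ a : A5, F (cls a) = ∑ k, (csize k : ℂ) * F k := by
  rw [← Finset.sum_fiberwise Finset.univ cls]
  refine Finset.sum_congr rfl fun k _ => ?_
  rw [Finset.sum_congr rfl (g := fun _ => F k) (fun a ha => by rw [(Finset.mem_filter.1 ha).2]),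
    Finset.sum_const, card_cls, nsmul_eq_mul]

/-- The inner products of the four functions. -/
def gram : Fin 4 → Fin 4 → ℤ := ![![2, 0, 0, 0], ![0, 4, 2, 2], ![0, 2, 4, 2], ![0, 2, 2, 4]]

theorem sum_M0 (F : Multiplicative (ZMod 2) × A5 → ℂ) (h : ∀ a, F (1, a) = 0) :
    ∑ p, F p = ∑ a : A5, F (Multiplicative.ofAdd 1, a) := by
  rw [Fintype.sum_prod_type, show (Finset.univ : Finset (Multiplicative (ZMod 2))) = {1, Multiplicative.ofAdd 1}
    by decide, Finset.sum_pair (by decide), Finset.sum_eq_zero fun a _ => h a, zero_add]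

theorem theta_inner (i j : Fin 4) :
    ∑ p, theta i p * conj (theta j p) = 120 * (gram i j : ℂ) := by
  rw [sum_M0 _ fun a => by simp [theta]]
  simp only [theta, if_neg (show Multiplicative.ofAdd (1 : ZMod 2) ≠ 1 by decide), map_mul, conj_vals,
    Complex.conj_ofNat]
  rw [sum_cls fun k => 2 * vals i k * (2 * vals j k)]
  fin_cases i <;> fin_cases j <;> simp [vals, gram, csize, Fin.sum_univ_five] <;>
    first | ring1 | linear_combination (-48 : ℂ) * c_add | linear_combination (48 : ℂ) * c_add |
      linear_combination (48 * (c1 + c2 - 3) : ℂ) * c_add - 96 * c_mul |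
      linear_combination (-96 : ℂ) * c_add + 96 * c_mul

theorem theta_sum (i : Fin 4) : ∑ p, theta i p = 120 * (if i = 0 then 0 else 1) := by
  rw [sum_M0 _ fun a => by simp [theta]]
  simp only [theta, if_neg (show Multiplicative.ofAdd (1 : ZMod 2) ≠ 1 by decide)]
  rw [sum_cls fun k => 2 * vals i k]
  fin_cases i <;> simp [vals, csize, Fin.sum_univ_five] <;>
    first | ring1 | linear_combination (-24 : ℂ) * c_add

theorem theta_regular (p : Multiplicative (ZMod 2) × A5) :
    4 * theta 0 p + 3 * theta 1 p + 3 * theta 2 p - 5 * theta 3 p =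
      if p = (Multiplicative.ofAdd 1, 1) then 120 else 0 := by
  obtain ⟨z, a⟩ := p
  by_cases hz : z = 1
  · simp [theta, hz, show (1 : Multiplicative (ZMod 2)) ≠ Multiplicative.ofAdd 1 by decide]
  · have hz' : z = Multiplicative.ofAdd 1 :=
      ((show ∀ x : Multiplicative (ZMod 2), x = 1 ∨ x = Multiplicative.ofAdd 1 by decide) z).resolve_left hz
    subst hz'
    simp only [theta, if_neg (show Multiplicative.ofAdd (1 : ZMod 2) ≠ 1 by decide)]
    by_cases ha : a = 1
    · subst ha
      rw [(cls_eq_zero 1).2 rfl, if_pos rfl]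
      simp [vals]; ring
    · rw [if_neg (by simp [ha])]
      have hk := mt (cls_eq_zero a).1 ha
      revert hk
      generalize cls a = k
      intro hk
      fin_cases k <;> first | exact absurd rfl hk | skip
      all_goals simp [vals]
      all_goals first | ring1 | linear_combination (-6 : ℂ) * c_add

/-- The values of the pair sums. -/
def pairVal : Fin 4 → ℤ := ![0, 1200, 1200, 720]

attribute [local irreducible] m0invols in
theorem theta_pairs (i : Fin 4) :
    ∑ x ∈ m0invols, ∑ y ∈ m0invols, theta i (x * y) = (pairVal i : ℂ) := by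
  rw [← Finset.sum_product' (f := fun x y => theta i (x * y))]
  simp only [theta]
  rw [Finset.sum_ite, Finset.sum_const_zero, zero_add, ← Finset.sum_fiberwise _ (fun q => cls (q.1 * q.2).2),
    Finset.sum_congr rfl (g := fun k => (npairs k : ℂ) * (2 * vals i k)) (fun k _ => by
      rw [Finset.filter_filter, Finset.sum_congr rfl (g := fun _ => 2 * vals i k)
        (fun q hq => by rw [(Finset.mem_filter.1 hq).2.2]), Finset.sum_const, nsmul_eq_mul, card_pairs k])]
  fin_cases i <;> simp [vals, pairVal, npairs, Fin.sum_univ_five] <;>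
    first | ring1 | linear_combination (-240 : ℂ) * c_add

end Cfsg.Agent.J1Degrees
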