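import Cfsg.Agent.Lib.J1Degrees.LocalChar
import Cfsg.Agent.Lib.EightSylow.Main
import Cfsg.Agent.Lib.CharInt.GaloisEquiv
import Cfsg.Prelude.Def_SporadicB

/-!
# The coordinate vectors of the exceptional characters in a group with centralizer `Z₂ × A₅`
-/

set_option autoImplicit false
set_option linter.style.haveILetI false
set_option maxHeartbeats 800000

namespace Cfsg.Agent.J1Degrees

open Cfsg.Agent.HJType.AltFive (A5 g5 h3 v0)
open Subgroup
open scoped ComplexConjugate

universe u

/-- `Z₂ × A₅`. -/
abbrev M0 : Type := Multiplicative (ZMod 2) × A5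

/-- The value at the involution. -/
def valT (v : Fin 4 → ℤ) : ℤ := 4 * v 0 + 3 * v 1 + 3 * v 2 - 5 * v 3

/-- The exchange of the two conjugate functions. -/
def swap12 : Fin 4 → Fin 4 := ![0, 2, 1, 3]

theorem eight_sq : ∀ p : M0, p ^ 8 = 1 → p * p = 1 := by decide +kernel

theorem center_z : ∀ p : M0, p.2 * v0 = v0 * p.2 → p.2 * h3 = h3 * p.2 → p ≠ 1 →
    p = (Multiplicative.ofAdd 1, 1) := by
  have key : ∀ a : A5, a * v0 = v0 * a → a * h3 = h3 * a → a = 1 := by decide +kernel
  rintro ⟨i, a⟩ h1 h2 h
  obtain rfl : a = 1 := key a h1 h2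
  rcases (show ∀ x : Multiplicative (ZMod 2), x = 1 ∨ x = Multiplicative.ofAdd 1 by decide) i with rfl | rfl
  · exact absurd rfl h
  · rfl

/-- Pairs of involutions whose product lies in the support of a function on a subgroup lie in the subgroup. -/
theorem pairInv_indFun' {G : Type u} [Group G] [Fintype G] {H : Subgroup G} [Fintype H] {α : H → ℂ}
    (hpair : ∀ u v : G, u * u = 1 → v * v = 1 → Cfsg.extendByZero H α (u * v) ≠ 0 → u ∈ H) :
    Exceptional.pairInv (Cfsg.indFun H α) =
      (Nat.card G : ℂ) / (Nat.card H : ℂ) * Exceptional.pairInv α := by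
  classical
  have h1 : ∀ x : G, ∑ u ∈ Exceptional.invols G, ∑ v ∈ Exceptional.invols G,
      Cfsg.extendByZero H α (x⁻¹ * (u * v) * x) =
      ∑ u ∈ Exceptional.invols G, ∑ v ∈ Exceptional.invols G, Cfsg.extendByZero H α (u * v) := by
    intro x
    rw [← Exceptional.sum_invols_conj x⁻¹ fun u => ∑ v ∈ Exceptional.invols G, Cfsg.extendByZero H α (u * v)]
    refine Finset.sum_congr rfl fun u _ => ?_
    rw [← Exceptional.sum_invols_conj x⁻¹ fun v => Cfsg.extendByZero H α (x⁻¹ * u * x⁻¹⁻¹ * v)]
    refine Finset.sum_congr rfl fun v _ => ?_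
    congr 1
    group
  have h2 : ∑ u ∈ Exceptional.invols G, ∑ v ∈ Exceptional.invols G, Cfsg.extendByZero H α (u * v) =
      Exceptional.pairInv α := by
    have hmap : (Exceptional.invols G).filter (fun g => g ∈ H) =
        (Exceptional.invols H).map (Function.Embedding.subtype _) := by
      ext g
      simp only [Finset.mem_filter, Exceptional.mem_invols, Finset.mem_map, Function.Embedding.subtype_apply]
      constructor
      · rintro ⟨⟨h, h'⟩, hg⟩
        exact ⟨⟨g, hg⟩, ⟨Subtype.ext h, fun e => h' (congrArg Subtype.val e)⟩, rfl⟩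
      · rintro ⟨a, ⟨h, h'⟩, rfl⟩
        exact ⟨⟨congrArg Subtype.val h, fun e => h' (Subtype.ext e)⟩, a.2⟩
    have hz : ∀ u v : G, u * u = 1 → v * v = 1 → Cfsg.extendByZero H α (u * v) ≠ 0 → u ∈ H ∧ v ∈ H := by
      intro u v hu hv hne
      have hm : u * v ∈ H := by
        by_contra hm
        exact hne (Char.extendByZero_of_notMem _ _ hm)
      have hu' := hpair u v hu hv hne
      exact ⟨hu', (H.mul_mem_cancel_left hu').1 hm⟩
    rw [Exceptional.pairInv, ← Finset.sum_filter_of_ne (p := fun g => g ∈ H) (fun u hu h => by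
      obtain ⟨v, hv, hne⟩ := Finset.exists_ne_zero_of_sum_ne_zero h
      exact (hz u v (Exceptional.mem_invols.1 hu).1 (Exceptional.mem_invols.1 hv).1 hne).1), hmap,
      Finset.sum_map]
    refine Finset.sum_congr rfl fun a ha => ?_
    simp only [Function.Embedding.subtype_apply]
    rw [← Finset.sum_filter_of_ne (p := fun g => g ∈ H) (fun v hv hne =>
      (hz _ v (congrArg Subtype.val (Exceptional.mem_invols.1 ha).1) (Exceptional.mem_invols.1 hv).1 hne).2),
      hmap, Finset.sum_map]
    exact Finset.sum_congr rfl fun b _ => Char.extendByZero_coe H α (a * b)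
  calc Exceptional.pairInv (Cfsg.indFun H α)
      = (Nat.card H : ℂ)⁻¹ *
        ∑ x : G, ∑ u ∈ Exceptional.invols G, ∑ v ∈ Exceptional.invols G,
          Cfsg.extendByZero H α (x⁻¹ * (u * v) * x) := by
        simp only [Exceptional.pairInv, Cfsg.indFun, ← Finset.mul_sum]
        rw [Finset.sum_comm (s := (Finset.univ : Finset G))]
        exact congrArg _ (Finset.sum_congr rfl fun u _ => Finset.sum_comm)
    _ = _ := by
      rw [Finset.sum_congr rfl fun x _ => h1 x, Finset.sum_const, Finset.card_univ, nsmul_eq_mul,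
        ← Nat.card_eq_fintype_card, h2, div_eq_inv_mul, mul_assoc]

/-- A simple group with an involution whose centralizer is `Z₂ × A₅`, with its local data. -/
structure Local (G : Type u) [Group G] [Finite G] where
  t : G
  ord_t : orderOf t = 2
  e : ↥(centralizer ({t} : Set G)) ≃* M0
  e_t : ∀ h : t ∈ centralizer ({t} : Set G), e ⟨t, h⟩ = (Multiplicative.ofAdd 1, 1)
  S : Sylow 2 G
  S_card : Nat.card (S : Subgroup G) = 8
  S_sq : ∀ x ∈ (S : Subgroup G), x * x = 1
  conjI : ∀ u : G, orderOf u = 2 → IsConj u t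
  noncomm : ¬ IsMulCommutative G

variable {G : Type u} [Group G] [Finite G] [IsSimpleGroup G]

theorem exists_local (t : G) (ht : Cfsg.IsTwoCentralInvolution t)
    (e : ↥(centralizer ({t} : Set G)) ≃* M0) : ∃ D : Local G, D.t = t := by
  classical
  haveI : Fact (Nat.Prime 2) := ⟨Nat.prime_two⟩
  obtain ⟨hord, S, htS, hSc⟩ := ht
  set C := centralizer ({t} : Set G)
  have hnc : ¬ IsMulCommutative G := fun h => absurd
    (show e.symm (1, v0) * e.symm (1, h3) = e.symm (1, h3) * e.symm (1, v0) from
      Subtype.ext (h.is_comm.comm _ _))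
    (fun h' => absurd (congrArg Prod.snd (e.symm.injective (by rw [map_mul, map_mul]; exact h') :
      ((1 : Multiplicative (ZMod 2)), v0) * (1, h3) = (1, h3) * (1, v0)))
      (show ¬ v0 * h3 = h3 * v0 by decide +kernel))
  have hSC : (S : Subgroup G) ≤ C := fun s hs => mem_centralizer_singleton_iff.2 (hSc s hs)
  have hcardC : Nat.card C = 120 := by
    rw [Nat.card_congr e.toEquiv, Nat.card_eq_fintype_card]; decide +kernel
  have h8 : Nat.card (S : Subgroup G) = 8 := by
    rw [← Nat.card_congr (subgroupOfEquivOfLe hSC).toEquiv]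
    have h := Sylow.card_eq_multiplicity (S.subtype hSC)
    rw [hcardC, show (120 : ℕ) = 2 ^ 3 * 15 by norm_num, Nat.factorization_mul (by norm_num) (by norm_num),
      Finsupp.add_apply, Nat.Prime.factorization_pow Nat.prime_two, Finsupp.single_eq_same,
      Nat.factorization_eq_zero_of_not_dvd (show ¬ 2 ∣ 15 by norm_num)] at h
    exact h
  have hsq : ∀ x ∈ (S : Subgroup G), x * x = 1 := by
    intro x hx
    have h := eight_sq (e ⟨x, hSC hx⟩) (by
      rw [← map_pow, MulEquiv.map_eq_one_iff]
      refine Subtype.ext ?_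
      have := congrArg Subtype.val (pow_card_eq_one' (x := (⟨x, hx⟩ : (S : Subgroup G))))
      rw [h8] at this
      simpa using this)
    rw [← map_mul, MulEquiv.map_eq_one_iff] at h
    exact congrArg Subtype.val h
  have hel : Cfsg.IsElementaryAbelian 2 (S : Subgroup G) := by
    refine ⟨⟨⟨fun a b => Subtype.ext ?_⟩⟩, fun x hx => by rw [pow_two]; exact hsq x hx⟩
    have hinv : ∀ y ∈ (S : Subgroup G), y⁻¹ = y := fun y hy => inv_eq_of_mul_eq_one_right (hsq y hy)
    show (a : G) * b = b * a
    rw [← hinv _ (mul_mem a.2 b.2), mul_inv_rev, hinv _ a.2, hinv _ b.2]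
  have hconj : ∀ u : G, orderOf u = 2 → IsConj u t := fun u hu =>
    EightSylow.isConj_involution S hel h8 (EightSylow.commutator_eq_top hnc) hu hord
  refine ⟨⟨t, hord, e, fun htC => ?_, S, h8, hsq, hconj, hnc⟩, rfl⟩
  have hz : ∀ p, e ⟨t, htC⟩ * p = p * e ⟨t, htC⟩ := fun p => by
    obtain ⟨c, rfl⟩ := e.surjective p
    rw [← map_mul, ← map_mul]
    exact congrArg e (Subtype.ext (mem_centralizer_singleton_iff.1 c.2).symm)
  refine center_z _ (congrArg Prod.snd (hz (1, v0))) (congrArg Prod.snd (hz (1, h3))) fun h => ?_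
  rw [MulEquiv.map_eq_one_iff] at h
  rw [show t = 1 from congrArg Subtype.val h, orderOf_one] at hord
  norm_num at hord

namespace Local

/-- The coordinate vectors and their properties. -/
structure Vectors {G : Type u} [Group G] [Fintype G] (V : Fin 4 → IrrCharacter G → ℤ)
    (π : IrrCharacter G ≃ IrrCharacter G) (t : G) : Prop where
  dot : ∀ i j, ∑ χ, V i χ * V j χ = gram i j
  triv : ∀ i, V i (Char.trivialChar G) = if i = 0 then 0 else 1
  orth : ∀ i, ∑ χ, V i χ * (Char.degree χ : ℤ) = 0
  value : ∀ χ : IrrCharacter G, χ.1 t = ((valT fun i => V i χ : ℤ) : ℂ)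
  cong : ∀ χ, ∃ n : ℕ, (Char.degree χ : ℤ) + 7 * valT (fun i => V i χ) = 8 * n
  le : ∀ χ, |valT fun i => V i χ| ≤ Char.degree χ
  ne : ∀ χ, χ ≠ Char.trivialChar G → valT (fun i => V i χ) ≠ Char.degree χ
  big : ∀ χ, χ ≠ Char.trivialChar G → 1 < Char.degree χ
  count : ∀ i, (Nat.card G : ℚ) *
    ∑ χ, (V i χ : ℚ) * ((valT fun j => V j χ : ℤ) : ℚ) ^ 2 / Char.degree χ = 120 * (pairVal i : ℚ)
  gal : ∀ i χ, V i (π χ) = V (swap12 i) χ
  gal_deg : ∀ χ, Char.degree (π χ) = Char.degree χ

theorem exists_galois : ∃ f : ℂ ≃+* ℂ, ∀ i k, f (vals i k) = vals (swap12 i) k := by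
  obtain ⟨f, hf⟩ := CharInt.exists_ringEquiv_pow (N := 5) (k := 2) (by norm_num) (by norm_num)
  have hz : f zeta = zeta ^ 2 := hf zeta zeta_pow
  have h1 : f c1 = c2 := by
    rw [c1, c2, map_add, map_pow, hz]
    linear_combination zeta ^ 3 * zeta_pow
  have h2 : f c2 = c1 := by
    rw [c1, c2, map_add, map_pow, map_pow, hz]
    linear_combination zeta * zeta_pow
  refine ⟨f, fun i k => ?_⟩
  fin_cases i <;> fin_cases k <;> simp [vals, swap12, h1, h2, map_ofNat]

theorem exists_vectors [Fintype G] (D : Local G) :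
    ∃ (V : Fin 4 → IrrCharacter G → ℤ) (π : IrrCharacter G ≃ IrrCharacter G), Vectors V π D.t := by
  classical
  set t := D.t with htdef
  have htord := D.ord_t
  have ht2 : t ^ 2 = 1 := htord ▸ pow_orderOf_eq_one t
  have ht1 : t ≠ 1 := fun e => by rw [← htdef, e, orderOf_one] at htord; norm_num at htord
  set C := centralizer ({t} : Set G) with hCdef
  haveI := Fintype.ofFinite C
  have htC : t ∈ C := mem_centralizer_singleton_iff.2 rfl
  let α : Fin 4 → C → ℂ := fun i c => theta i (D.e c)
  have hgen : ∀ i, Cfsg.IsGeneralizedCharacter C (α i) := fun i =>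
    Char.IsGeneralizedCharacter.comp (isGeneralizedCharacter_theta i) D.e.toMonoidHom
  have hcl : ∀ i, Cfsg.IsClassFunction C (α i) := fun i =>
    Char.IsGeneralizedCharacter.isClassFunction (hgen i)
  have inS0 : ∀ i (c : C), α i c ≠ 0 → (c : G) ∈ EightSylow.sect t := by
    intro i c hc
    obtain ⟨h1, h2⟩ := theta_ne_zero hc
    set y : C := ⟨t, htC⟩ * c with hy
    have hey : D.e y = (1, (D.e c).2) := by
      rw [hy, map_mul, D.e_t]
      ext1
      · show _ * _ = _
        rw [h1]
        exact (show Multiplicative.ofAdd (1 : ZMod 2) * Multiplicative.ofAdd 1 = 1 by decide)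
      · exact one_mul _
    have h15 : y ^ 15 = 1 := by
      refine D.e.injective ?_
      rw [map_pow, map_one, hey]
      ext1
      · exact one_pow 15
      · show (D.e c).2 ^ 15 = 1
        rcases h2 with h2 | h2
        · rw [show (15 : ℕ) = 3 * 5 by norm_num, pow_mul, pow_three', h2, one_pow]
        · rw [show (15 : ℕ) = 5 * 3 by norm_num, pow_mul,
            show (D.e c).2 ^ 5 = 1 by rw [← h2]; simp only [pow_succ, pow_zero, one_mul], one_pow]
    refine ⟨(y : G), ?_, mem_centralizer_singleton_iff.1 y.2, ?_⟩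
    · rw [Subgroup.orderOf_coe]
      exact Odd.of_dvd_nat (by decide) (orderOf_dvd_of_pow_eq_one h15)
    · simp [hy, ← mul_assoc, ← pow_two, ht2]
  have hS0 : ∀ i (c : C), (c : G) ∉ EightSylow.sect t → α i c = 0 := fun i c hc =>
    by_contra fun h => hc (inS0 i c h)
  have hcardC : Nat.card C = 120 := by
    rw [Nat.card_congr D.e.toEquiv, Nat.card_eq_fintype_card]; decide +kernel
  have hC0 : (Nat.card C : ℂ) ≠ 0 := by rw [hcardC]; norm_num
  have hsumC : ∀ F : M0 → ℂ, ∑ c : C, F (D.e c) = ∑ p, F p := fun F =>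
    Fintype.sum_equiv D.e.toEquiv _ _ fun c => rfl
  let F : Fin 4 → G → ℂ := fun i => Cfsg.indFun C (α i)
  have hFgen : ∀ i, Cfsg.IsGeneralizedCharacter G (F i) := fun i =>
    Char.isGeneralizedCharacter_indFun C (hgen i)
  choose V hV hVinner using fun i => Char.IsGeneralizedCharacter.exists_decomp (hFgen i)
  have hres : ∀ i (χ : IrrCharacter G), Cfsg.classInner (α i) (fun c : C => χ.1 c) = V i χ := fun i χ => by
    rw [← hVinner, Char.classInner_indFun C (α i)
      (Char.IsCharacter.isClassFunction (Char.irr_isCharacter χ))]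
  have hdot : ∀ i j, ∑ χ, V i χ * V j χ = gram i j := by
    intro i j
    have h := CharInt.classInner_indFun_ti (ψ := α i) (θ := α j) (EightSylow.sect_ti ht2) (hS0 i) (hcl j)
      (hS0 j)
    rw [show Cfsg.classInner (α i) (α j) = (gram i j : ℂ) by
      rw [Cfsg.classInner, hsumC (fun p => theta i p * conj (theta j p)), theta_inner, hcardC]
      push_cast; field_simp,
      Char.classInner_eq_sum (Char.isClassFunction_indFun _ _)] at h
    have e : ∀ χ : IrrCharacter G,
        Cfsg.classInner (Cfsg.indFun C (α i)) χ.1 * Cfsg.classInner χ.1 (Cfsg.indFun C (α j)) =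
        ((V i χ * V j χ : ℤ) : ℂ) := fun χ => by
      rw [← Char.conj_classInner (Cfsg.indFun C (α j)) χ.1, hVinner i χ, hVinner j χ]
      simp
    simp only [e, ← Int.cast_sum] at h
    exact_mod_cast h
  have htriv : ∀ i, V i (Char.trivialChar G) = if i = 0 then 0 else 1 := by
    intro i
    have h := (hres i (Char.trivialChar G)).symm
    rw [Cfsg.classInner] at h
    simp only [Char.trivialChar_apply, map_one, mul_one] at h
    rw [hsumC (theta i), theta_sum, hcardC] at h
    split_ifs at h with hi
    · rw [if_pos hi]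
      simp at h
      exact_mod_cast h
    · rw [if_neg hi]
      norm_num at h
      exact_mod_cast h
  have horth : ∀ i, ∑ χ, V i χ * (Char.degree χ : ℤ) = 0 := by
    intro i
    have h : F i 1 = 0 := by
      show Cfsg.indFun C (α i) 1 = 0
      rw [Char.indFun_apply_one]
      have : α i 1 = 0 := by simp [α, theta]
      rw [this, mul_zero]
    rw [hV i] at h
    simp only [Finset.sum_apply, Pi.smul_apply, smul_eq_mul, Char.apply_one_eq_degree] at h
    exact_mod_cast h
  have hval : ∀ χ : IrrCharacter G, χ.1 t = ((valT fun i => V i χ : ℤ) : ℂ) := by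
    intro χ
    have h2 : Cfsg.classInner (fun c => 4 * α 0 c + 3 * α 1 c + 3 * α 2 c - 5 * α 3 c)
        (fun c : C => χ.1 c) = χ.1 t := by
      rw [Cfsg.classInner, hcardC, Finset.sum_eq_single (⟨t, htC⟩ : C) (fun c _ hc => ?_)
        (fun h => absurd (Finset.mem_univ _) h)]
      · simp only [α, theta_regular]
        rw [if_pos (D.e_t htC), Char.IsCharacter.conj_apply (Char.irr_isCharacter χ),
          inv_eq_of_mul_eq_one_right (show t * t = 1 by rw [← pow_two]; exact ht2)]
        push_cast; field_simp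
      · simp only [α, theta_regular]
        rw [if_neg (fun e => hc (D.e.injective (by rw [e, D.e_t]))), zero_mul]
    rw [← h2, valT]
    push_cast
    simp only [← hres, Cfsg.classInner, Finset.mul_sum, ← Finset.sum_add_distrib, ← Finset.sum_sub_distrib]
    exact Finset.sum_congr rfl fun c _ => by ring
  have hconjT : ∀ u : G, orderOf u = 2 → ∀ χ : IrrCharacter G, χ.1 u = χ.1 t := fun u hu χ =>
    Char.IsClassFunction.apply_of_isConj (Char.IsCharacter.isClassFunction (Char.irr_isCharacter χ))
      (D.conjI u hu)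
  haveI := Fintype.ofFinite (D.S : Subgroup G)
  have hcong : ∀ χ, ∃ n : ℕ, (Char.degree χ : ℤ) + 7 * valT (fun i => V i χ) = 8 * n := by
    intro χ
    obtain ⟨n, hn⟩ := Char.IsCharacter.exists_nat_classInner
      (Char.IsCharacter.restrict (Char.irr_isCharacter χ) (D.S : Subgroup G)) Char.isCharacter_one
    refine ⟨n, ?_⟩
    simp only [Cfsg.classInner, map_one, mul_one] at hn
    rw [SmallSimple.sum_over_nontrivial (fun s : (D.S : Subgroup G) => χ.1 s) (χ.1 t) (fun s hs =>
      hconjT s (orderOf_eq_prime (by rw [pow_two]; exact D.S_sq s s.2) (fun e => hs (Subtype.ext e))) χ),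
      ← Nat.card_eq_fintype_card, D.S_card, OneMemClass.coe_one, Char.apply_one_eq_degree, hval χ] at hn
    have h8 : ((((Char.degree χ : ℤ) + 7 * valT (fun i => V i χ)) : ℤ) : ℂ) = ((8 * n : ℤ) : ℂ) := by
      push_cast at hn ⊢
      linear_combination 8 * hn
    exact_mod_cast h8
  have hle : ∀ χ, |valT fun i => V i χ| ≤ Char.degree χ := by
    intro χ
    have h := CharInt.norm_char_le (Char.irr_isCharacter χ) t
    rw [hval χ, Char.apply_one_eq_degree, Complex.norm_intCast, Complex.norm_natCast] at h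
    exact_mod_cast h
  have hne : ∀ χ, χ ≠ Char.trivialChar G → valT (fun i => V i χ) ≠ Char.degree χ := by
    intro χ hχ e
    have h1 : χ.1 t = χ.1 1 := by
      rw [hval χ, e, Char.apply_one_eq_degree]
      simp
    set K := CharInt.charKernel (Char.irr_isCharacter χ)
    haveI : K.Normal := CharInt.charKernel_normal _
    rcases (inferInstance : K.Normal).eq_bot_or_eq_top with h | h
    · exact ht1 (mem_bot.1 (h ▸ ((CharInt.mem_charKernel _).2 h1) : t ∈ (⊥ : Subgroup G)))
    · have h2 := Char.sum_apply_eq_zero hχ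
      rw [Finset.sum_congr rfl fun g _ => (CharInt.mem_charKernel _).1 (h ▸ mem_top g : g ∈ K),
        Finset.sum_const, Finset.card_univ, nsmul_eq_mul, mul_eq_zero] at h2
      rcases h2 with h2 | h2
      · exact Fintype.card_ne_zero (α := G) (by exact_mod_cast h2)
      · exact Char.IsIrrCharacter.apply_one_ne_zero χ.2 h2
  have hbig : ∀ χ, χ ≠ Char.trivialChar G → 1 < Char.degree χ := by
    intro χ hχ
    rcases Nat.lt_or_ge 1 (Char.degree χ) with h | h
    · exact h
    · exfalso
      have h1 : Char.degree χ = 1 := le_antisymm h (Char.degree_pos χ)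
      exact hχ (SmallSimple.eq_trivialChar_of_degree_one D.noncomm χ
        (by rw [Char.apply_one_eq_degree, h1, Nat.cast_one]))
  -- the class equation
  set N := (Exceptional.invols G).card with hNdef
  have hNG : 120 * N = Nat.card G := by
    rw [← C.card_mul_index, hcardC]
    congr 1
    have hstab : C.index = (MulAction.stabilizer (ConjAct G) t).index := by
      rw [ConjAct.stabilizer_eq_centralizer]
      rfl
    rw [hstab, MulAction.index_stabilizer, hNdef, ← Nat.card_coe_set_eq, ← Nat.card_eq_finsetCard]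
    refine Nat.card_congr (Equiv.subtypeEquivRight fun u => ?_)
    rw [ConjAct.mem_orbit_conjAct, Exceptional.mem_invols]
    constructor
    · rintro ⟨h1, h2⟩
      exact D.conjI u (orderOf_eq_prime (by rw [pow_two]; exact h1) h2)
    · intro h
      obtain ⟨c, rfl⟩ := isConj_iff.1 h.symm
      exact ⟨by rw [conj_mul, ← pow_two, ht2, mul_one, mul_inv_cancel], fun e => ht1 (conj_eq_one_iff.1 e)⟩
  have hN : (N : ℂ) ≠ 0 := Nat.cast_ne_zero.2 fun e => by
    rw [e, mul_zero] at hNG
    exact Nat.card_pos.ne' hNG.symm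
  have hpairC : ∀ i, Exceptional.pairInv (α i) = (pairVal i : ℂ) := by
    intro i
    rw [← theta_pairs i]
    have hmem : ∀ c : C, c ∈ Exceptional.invols C ↔ D.e c ∈ m0invols := fun c => by
      rw [Exceptional.mem_invols, m0invols, Finset.mem_filter, ← map_mul, MulEquiv.map_eq_one_iff,
        ← MulEquiv.map_ne_one_iff (h := D.e)]
      simp
    refine Finset.sum_equiv D.e.toEquiv hmem fun u _ => ?_
    refine Finset.sum_equiv D.e.toEquiv hmem fun v _ => ?_
    show theta i (D.e (u * v)) = theta i (D.e u * D.e v)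
    rw [map_mul]
  have hcount : ∀ i, (Nat.card G : ℚ) *
      ∑ χ, (V i χ : ℚ) * ((valT fun j => V j χ : ℤ) : ℚ) ^ 2 / Char.degree χ = 120 * (pairVal i : ℚ) := by
    intro i
    have h1 := pairInv_indFun' (α := α i) (fun u v hu hv hne => by
      have hm : u * v ∈ C := by
        by_contra hm
        exact hne (Char.extendByZero_of_notMem _ _ hm)
      rw [Char.extendByZero_of_mem _ _ hm] at hne
      exact EightSylow.sect_pair ht2 hu hv (inS0 i _ hne))
    change Exceptional.pairInv (F i) = _ at h1
    rw [hpairC, hcardC, hV i, Exceptional.pairInv_sum_smul] at h1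
    have h2 : ∀ χ : IrrCharacter G, Exceptional.pairInv χ.1 =
        (N : ℂ) ^ 2 * ((((valT fun j => V j χ : ℤ) : ℚ) ^ 2 / Char.degree χ : ℚ) : ℂ) := by
      intro χ
      have hsum : Exceptional.sumInv χ.1 = (N : ℂ) * χ.1 t := by
        rw [Exceptional.sumInv, Finset.sum_congr rfl fun u hu => hconjT u ?_ χ, Finset.sum_const,
          nsmul_eq_mul]
        exact orderOf_eq_prime (by rw [pow_two]; exact (Exceptional.mem_invols.1 hu).1)
          (Exceptional.mem_invols.1 hu).2
      have h := Exceptional.apply_one_mul_pairInv χ.2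
      rw [hsum, Char.apply_one_eq_degree, hval χ] at h
      have hd : (Char.degree χ : ℂ) ≠ 0 := Nat.cast_ne_zero.2 (Char.degree_pos χ).ne'
      push_cast at h ⊢
      field_simp
      linear_combination h
    have h3 : (((Nat.card G : ℚ) *
        ∑ χ, (V i χ : ℚ) * ((valT fun j => V j χ : ℤ) : ℚ) ^ 2 / Char.degree χ : ℚ) : ℂ) =
        ((120 * (pairVal i : ℚ) : ℚ) : ℂ) := by
      simp only [Rat.cast_mul, Rat.cast_sum, mul_div_assoc, Rat.cast_intCast, Rat.cast_natCast]
      rw [← hNG] at h1 ⊢
      simp only [h2] at h1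
      push_cast at h1 ⊢
      rw [Finset.mul_sum]
      apply mul_left_cancel₀ hN
      rw [Finset.mul_sum]
      rw [← sub_eq_zero] at h1 ⊢
      rw [← mul_eq_zero_of_right 120 h1]
      rw [mul_sub, Finset.mul_sum]
      congr 1
      · exact Finset.sum_congr rfl fun χ _ => by ring
      · field_simp
    exact_mod_cast h3
  -- the Galois exchange
  obtain ⟨f, hf⟩ := exists_galois
  let pi' : IrrCharacter G → IrrCharacter G := fun χ =>
    ⟨fun g => f (χ.1 g), CharInt.isIrrCharacter_map χ.2 f.toRingHom⟩
  have hinj : Function.Injective pi' := fun χ ψ h => Subtype.ext (funext fun g =>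
    f.injective (congrFun (congrArg Subtype.val h) g))
  let π := Equiv.ofBijective pi' (Finite.injective_iff_bijective.1 hinj)
  have hgal : ∀ i χ, V i (π χ) = V (swap12 i) χ := by
    intro i χ
    have hci : ∀ g : G, conj (f (χ.1 g)) = f (conj (χ.1 g)) := fun g => by
      rw [← CharInt.char_inv (Char.irr_isCharacter χ) g]
      exact (CharInt.char_inv (Char.irr_isCharacter (pi' χ)) g).symm
    have h := congrArg f (hres (swap12 i) χ)
    rw [map_intCast, Cfsg.classInner, map_mul, map_inv₀, map_natCast, map_sum] at h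
    have h' : (V i (π χ) : ℂ) = V (swap12 i) χ := by
      rw [← h, ← hres i (π χ), Cfsg.classInner]
      congr 1
      refine Finset.sum_congr rfl fun c _ => ?_
      rw [map_mul, ← hci]
      show α i c * conj (f (χ.1 c)) = f (α (swap12 i) c) * conj (f (χ.1 c))
      congr 1
      simp only [α, theta]
      split_ifs
      · rw [map_zero]
      · rw [map_mul, hf, map_ofNat, (show ∀ j, swap12 (swap12 j) = j by decide) i]
    exact_mod_cast h'
  have hdegπ : ∀ χ, Char.degree (π χ) = Char.degree χ := by
    intro χ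
    have h := Char.apply_one_eq_degree (π χ)
    have h' : (π χ).1 1 = f (χ.1 1) := rfl
    rw [h', Char.apply_one_eq_degree, map_natCast] at h
    exact_mod_cast h.symm
  exact ⟨V, π, hdot, htriv, horth, hval, hcong, hle, hne, hbig, hcount, hgal, hdegπ⟩

end Local

end Cfsg.Agent.J1Degrees
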